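import Mathlib.GroupTheory.Transfer
import Cfsg.Agent.Lib.Invol.SECriterion.Transfer

/-!
# Transfer at an involution into an arbitrary commutative group

`χ` is a homomorphism on a subgroup of odd index, trivial on the conjugates of `z` and equal to `ε ≠ 1` on
those of `x`: the transfer separates `x` from the normal closure of `z`.
-/

set_option autoImplicit false
set_option linter.style.haveILetI false

namespace CfsgLib.SECrit

open CfsgLib.Invol Subgroup

variable {G : Type*} [Group G] [Finite G] {S : Subgroup G} {A : Type*} [CommGroup A]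

omit [Finite G] in
theorem transfer_invol_comm [S.FiniteIndex] (χ : S →* A) {t : G} (ht : orderOf t = 2) (ε : A)
    (hε : ∀ g : G, ∀ hm : g⁻¹ * t * g ∈ S, χ ⟨g⁻¹ * t * g, hm⟩ = ε) :
    MonoidHom.transfer χ t = ε ^ Nat.card {a : G ⧸ S // t • a = a} := by
  classical
  letI := Fintype.ofFinite (Quotient (MulAction.orbitRel (zpowers t) (G ⧸ S)))
  rw [MonoidHom.transfer_eq_prod_quotient_orbitRel_zpowers_quot]
  have ht2 : t ^ 2 = 1 := by rw [← ht, pow_orderOf_eq_one]
  have hmem : ∀ q : Quotient (MulAction.orbitRel (zpowers t) (G ⧸ S)),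
      q.out.out⁻¹ * t ^ Function.minimalPeriod (t • ·) q.out * q.out.out ∈ S := fun q =>
    QuotientGroup.out_conj_pow_minimalPeriod_mem S t q.out
  have hper : ∀ q : Quotient (MulAction.orbitRel (zpowers t) (G ⧸ S)),
      Function.minimalPeriod (t • ·) q.out = if t • q.out = q.out then 1 else 2 := by
    intro q
    have hdvd : Function.minimalPeriod (t • ·) q.out ∣ 2 :=
      Function.IsPeriodicPt.minimalPeriod_dvd (by
        show ((t • ·)^[2]) q.out = q.out
        simp [smul_smul, invol_mul_self ht])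
    split_ifs with hq
    · exact Function.minimalPeriod_eq_one_iff_isFixedPt.2 hq
    · rcases (Nat.dvd_prime Nat.prime_two).1 hdvd with h1 | h1
      · exact absurd (Function.minimalPeriod_eq_one_iff_isFixedPt.1 h1) hq
      · exact h1
  have hval : ∀ q : Quotient (MulAction.orbitRel (zpowers t) (G ⧸ S)),
      χ ⟨q.out.out⁻¹ * t ^ Function.minimalPeriod (t • ·) q.out * q.out.out, hmem q⟩ =
        if t • q.out = q.out then ε else 1 := by
    intro q
    split_ifs with hq
    · have hm : q.out.out⁻¹ * t * q.out.out ∈ S := by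
        rw [← smul_coe_eq_iff, QuotientGroup.out_eq']
        exact hq
      refine (congrArg χ (Subtype.ext ?_)).trans (hε _ hm)
      show q.out.out⁻¹ * t ^ _ * q.out.out = q.out.out⁻¹ * t * q.out.out
      rw [hper q, if_pos hq, pow_one]
    · refine (congrArg χ (show _ = (1 : S) from Subtype.ext ?_)).trans (map_one χ)
      show q.out.out⁻¹ * t ^ _ * q.out.out = 1
      rw [hper q, if_neg hq, ht2, mul_one, inv_mul_cancel]
  rw [Finset.prod_congr rfl fun q _ => hval q, Finset.prod_ite, Finset.prod_const, Finset.prod_const_one,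
    mul_one]
  congr 1
  rw [← Fintype.card_subtype, ← Nat.card_eq_fintype_card]
  have horb : ∀ a : G ⧸ S, t • a = a → ∀ b : G ⧸ S, b ∈ MulAction.orbit (zpowers t) a → b = a := by
    rintro a ha b ⟨⟨g, hg⟩, rfl⟩
    exact MulAction.mem_stabilizer_iff.1 ((zpowers_le.2 (MulAction.mem_stabilizer_iff.2 ha)) hg)
  refine Nat.card_eq_of_bijective (fun q => ⟨q.1.out, q.2⟩) ⟨?_, ?_⟩
  · intro q q' hqq
    have h1 : q.1.out = q'.1.out := congrArg Subtype.val hqq
    exact Subtype.ext (by rw [← Quotient.out_eq q.1, h1, Quotient.out_eq])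
  · rintro ⟨a, ha⟩
    have h1 : (Quotient.mk (MulAction.orbitRel (zpowers t) (G ⧸ S)) a).out = a :=
      horb a ha _ (MulAction.orbitRel_apply.1 (Quotient.exact (Quotient.out_eq (Quotient.mk (MulAction.orbitRel (zpowers t) (G ⧸ S)) a))))
    exact ⟨⟨Quotient.mk _ a, by rw [h1]; exact ha⟩, Subtype.ext h1⟩

/-- **The transfer lemma** for a commutative target. -/
theorem not_mem_normalClosure_of_hom (hS : Odd S.index) (χ : S →* A) {z x : G} (hz : orderOf z = 2)
    (hx : orderOf x = 2) (hzχ : ∀ g : G, ∀ hm : g⁻¹ * z * g ∈ S, χ ⟨g⁻¹ * z * g, hm⟩ = 1) {ε : A} (hε : ε ≠ 1)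
    (hxχ : ∀ g : G, ∀ hm : g⁻¹ * x * g ∈ S, χ ⟨g⁻¹ * x * g, hm⟩ = ε) : x ∉ normalClosure ({z} : Set G) := by
  haveI : Fact (Nat.Prime 2) := ⟨Nat.prime_two⟩
  haveI : S.FiniteIndex := ⟨index_ne_zero_of_finite⟩
  intro hmem
  have hzero : MonoidHom.transfer χ z = 1 := by rw [transfer_invol_comm χ hz 1 hzχ, one_pow]
  have hle : normalClosure ({z} : Set G) ≤ (MonoidHom.transfer χ).ker :=
    normalClosure_le_normal (Set.singleton_subset_iff.2 hzero)
  have hx1 := transfer_invol_comm χ hx ε hxχ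
  obtain ⟨n, hn⟩ : ∃ n, n = Nat.card {a : G ⧸ S // x • a = a} := ⟨_, rfl⟩
  rw [← hn] at hx1
  have hfix : Odd n := by
    have hmod := (Crit.isPGroup_zpowers_invol hx).card_modEq_card_fixedPoints (G ⧸ S)
    have e : Nat.card {a : G ⧸ S // x • a = a} = Nat.card (MulAction.fixedPoints (zpowers x) (G ⧸ S)) :=
      Nat.card_congr (Equiv.subtypeEquivRight fun a =>
        ⟨fun ha g => Crit.forall_zpowers_fix ha g g.2, fun ha => ha ⟨x, mem_zpowers x⟩⟩)
    rw [hn, e, Nat.odd_iff, ← hmod, ← Nat.odd_iff]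
    exact hS
  obtain ⟨⟨a, ha⟩⟩ : Nonempty {a : G ⧸ S // x • a = a} :=
    (Nat.card_pos_iff.1 (hn ▸ hfix.pos)).1
  have hm : a.out⁻¹ * x * a.out ∈ S := by
    rw [← smul_coe_eq_iff, QuotientGroup.out_eq']
    exact ha
  have hε2 : ε ^ 2 = 1 := by
    rw [← hxχ _ hm, ← map_pow, show (⟨a.out⁻¹ * x * a.out, hm⟩ : S) ^ 2 = 1 from Subtype.ext ?_, map_one]
    show (a.out⁻¹ * x * a.out) ^ 2 = 1
    rw [pow_two, show a.out⁻¹ * x * a.out * (a.out⁻¹ * x * a.out) = a.out⁻¹ * (x * x) * a.out by group,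
      invol_mul_self hx, mul_one, inv_mul_cancel]
  have h1 : MonoidHom.transfer χ x = 1 := hle hmem
  obtain ⟨k, rfl⟩ := hfix
  rw [hx1, pow_succ, pow_mul, hε2, one_pow, one_mul] at h1
  exact hε h1

end CfsgLib.SECrit
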