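import Mathlib.GroupTheory.QuotientGroup.Basic
import Mathlib.GroupTheory.Index
import Mathlib.Data.Fintype.Card
import Mathlib.Data.Fintype.Prod
import Mathlib.Tactic.Group
import Mathlib.Tactic.Ring

/-!
# A complement to a fixed vector under an automorphism

`V ≤ P` with every square of `P` in `V`, and an element `c` normalising both and fixing `x` of `P` outside
`V`.  If an element of `P` moved by `c` within `B = V ∪ x V` lies in `B`, then `U`, generated by `V` and the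
commutators with `c`, misses `x` and has index two in `P`.
-/

set_option autoImplicit false
set_option linter.style.haveILetI false

namespace CfsgLib.SECrit

open Subgroup

variable {G : Type*} [Group G] [Finite G]

/-- **The half.** -/
theorem exists_half (P V B : Subgroup G) (hVP : V ≤ P) (hVn : ∀ g ∈ P, ∀ v ∈ V, g * v * g⁻¹ ∈ V)
    (hsq : ∀ g ∈ P, g * g ∈ V) {c x : G} (hcP : ∀ g ∈ P, c * g * c⁻¹ ∈ P) (hcV : ∀ v ∈ V, c * v * c⁻¹ ∈ V)
    (hxP : x ∈ P) (hxV : x ∉ V) (hcx : Commute c x) (hB : ∀ g, g ∈ B ↔ g ∈ V ∨ x * g ∈ V)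
    (hfixB : ∀ p ∈ P, c * p * c⁻¹ * p⁻¹ ∈ B → p ∈ B) :
    ∃ U : Subgroup G, V ≤ U ∧ U ≤ P ∧ x ∉ U ∧ (∀ p ∈ P, p ∈ U ∨ x * p ∈ U) ∧
      (∀ p ∈ P, c * p * c⁻¹ * p⁻¹ ∈ U) ∧ ∀ u ∈ U, ∃ p ∈ P, (c * p * c⁻¹ * p⁻¹)⁻¹ * u ∈ V := by
  classical
  haveI hN : (V.subgroupOf P).Normal := ⟨fun v hv g => mem_subgroupOf.2 (hVn _ g.2 _ (mem_subgroupOf.1 hv))⟩
  have hsqQ : ∀ a : P ⧸ V.subgroupOf P, a * a = 1 := fun a => by
    obtain ⟨g, rfl⟩ := QuotientGroup.mk'_surjective (V.subgroupOf P) a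
    rw [← map_mul]
    exact (QuotientGroup.eq_one_iff _).2 (mem_subgroupOf.2 (hsq _ g.2))
  letI : CommGroup (P ⧸ V.subgroupOf P) :=
    { (inferInstance : Group (P ⧸ V.subgroupOf P)) with
      mul_comm := fun a b => by
        calc a * b = (a * b)⁻¹ := (inv_eq_of_mul_eq_one_left (hsqQ _)).symm
          _ = b * a := by rw [mul_inv_rev, inv_eq_of_mul_eq_one_left (hsqQ b), inv_eq_of_mul_eq_one_left (hsqQ a)] }
  let π : P →* P ⧸ V.subgroupOf P := QuotientGroup.mk' _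
  have hπ : ∀ a : P, π a = 1 ↔ (a : G) ∈ V := fun a => (QuotientGroup.eq_one_iff a).trans mem_subgroupOf
  let cj : P →* P :=
    { toFun := fun g => ⟨c * g * c⁻¹, hcP _ g.2⟩
      map_one' := Subtype.ext (show c * ((1 : P) : G) * c⁻¹ = 1 by simp)
      map_mul' := fun g k => Subtype.ext (show c * ((g : G) * k) * c⁻¹ = c * g * c⁻¹ * (c * k * c⁻¹) by group) }
  let δ : P →* P ⧸ V.subgroupOf P := π.comp cj * π
  have hδ : ∀ p : P, δ p = π (cj p * p⁻¹) := fun p => by
    show π (cj p) * π p = _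
    rw [map_mul, map_inv, inv_eq_of_mul_eq_one_left (hsqQ (π p))]
  let U' : Subgroup P := δ.range.comap π
  let U : Subgroup G := U'.map P.subtype
  have hUmem : ∀ u, u ∈ U → ∃ p ∈ P, (c * p * c⁻¹ * p⁻¹)⁻¹ * u ∈ V := by
    rintro _ ⟨u, ⟨p, hp⟩, rfl⟩
    rw [hδ] at hp
    refine ⟨p, p.2, (hπ ((cj p * p⁻¹)⁻¹ * u)).1 ?_⟩
    rw [map_mul, map_inv, hp, inv_mul_cancel]
  have hVU : V ≤ U := fun v hv => ⟨⟨v, hVP hv⟩, ⟨1, by rw [map_one, (hπ _).2 hv]⟩, rfl⟩
  have hker : ∀ p : P, δ p = 1 ↔ (p : G) ∈ B := by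
    intro p
    rw [hδ, hπ]
    refine ⟨fun hh => hfixB _ p.2 ((hB _).2 (Or.inl hh)), fun hh => ?_⟩
    show c * p * c⁻¹ * (p : G)⁻¹ ∈ V
    rcases (hB _).1 hh with h1 | h1
    · exact mul_mem (hcV _ h1) (inv_mem h1)
    · rw [show c * p * c⁻¹ * (p : G)⁻¹ = (c * x⁻¹ * c⁻¹) * ((c * (x * p) * c⁻¹) * (x * p)⁻¹) * x by group,
        hcx.inv_right.eq, mul_inv_cancel_right]
      have := hVn x⁻¹ (inv_mem hxP) _ (mul_mem (hcV _ h1) (inv_mem h1))
      rwa [inv_inv] at this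
  have hxU : x ∉ U := by
    intro hh
    obtain ⟨p, hp, hpv⟩ := hUmem x hh
    have h1 : c * p * c⁻¹ * p⁻¹ ∈ B := by
      refine (hB _).2 (Or.inr ?_)
      have h2 := mul_mem (hsq x hxP) (inv_mem hpv)
      rwa [mul_inv_rev, inv_inv, mul_assoc, mul_inv_cancel_left] at h2
    have h3 : (c * p * c⁻¹ * p⁻¹) ∈ V := by
      have := (hπ _).1 ((hδ ⟨p, hp⟩).symm.trans ((hker ⟨p, hp⟩).2 (hfixB p hp h1)))
      exact this
    exact hxV (by simpa [mul_assoc] using mul_mem h3 hpv)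
  refine ⟨U, hVU, fun u hu => ?_, hxU, fun p hp => ?_, fun p hp => ?_, hUmem⟩
  · obtain ⟨u', -, rfl⟩ := hu
    exact u'.2
  · -- index two
    have hBP : B ≤ P := fun g hg => ((hB g).1 hg).elim (fun h1 => hVP h1) fun h1 => by
      have := mul_mem (inv_mem hxP) (hVP h1)
      rwa [inv_mul_cancel_left] at this
    have hcardB : Nat.card B = 2 * Nat.card V := by
      rw [show 2 * Nat.card V = Nat.card (Bool × V) by
        rw [Nat.card_prod, Nat.card_eq_fintype_card (α := Bool), Fintype.card_bool]]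
      refine (Nat.card_eq_of_bijective (fun p : Bool × V => (⟨if p.1 then x⁻¹ * p.2 else p.2, ?_⟩ : B))
        ⟨?_, ?_⟩).symm
      · rcases p with ⟨b, v⟩
        cases b
        · exact (hB _).2 (Or.inl v.2)
        · exact (hB _).2 (Or.inr (by simp))
      · rintro ⟨b, v⟩ ⟨b', v'⟩ hh
        simp only [Subtype.mk.injEq] at hh
        cases b <;> cases b' <;> simp only [Bool.false_eq_true, if_false, if_true] at hh
        · exact Prod.ext rfl (Subtype.ext hh)
        · exact absurd (show x ∈ V by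
            have := mul_mem v'.2 (inv_mem v.2)
            rw [hh, mul_inv_rev, mul_inv_cancel_left, inv_inv] at this
            exact this) hxV
        · exact absurd (show x ∈ V by
            have := mul_mem v.2 (inv_mem v'.2)
            rw [← hh, mul_inv_rev, mul_inv_cancel_left, inv_inv] at this
            exact this) hxV
        · exact Prod.ext rfl (Subtype.ext (mul_left_cancel hh))
      · rintro ⟨g, hg⟩
        rcases (hB g).1 hg with h1 | h1
        · exact ⟨(false, ⟨g, h1⟩), rfl⟩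
        · exact ⟨(true, ⟨x * g, h1⟩), Subtype.ext (inv_mul_cancel_left x g)⟩
    have hk : δ.ker = B.subgroupOf P := Subgroup.ext fun q => (MonoidHom.mem_ker).trans ((hker q).trans mem_subgroupOf.symm)
    have h1 := (δ.ker).card_eq_card_quotient_mul_card_subgroup
    rw [Nat.card_congr (QuotientGroup.quotientKerEquivRange δ).toEquiv, hk,
      Nat.card_congr (subgroupOfEquivOfLe hBP).toEquiv, hcardB] at h1
    have h2 := (V.subgroupOf P).card_eq_card_quotient_mul_card_subgroup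
    rw [Nat.card_congr (subgroupOfEquivOfLe hVP).toEquiv] at h2
    have hidx : U'.index = 2 := by
      rw [show U'.index = δ.range.index from Subgroup.index_comap_of_surjective _ (QuotientGroup.mk'_surjective _)]
      have h3 := δ.range.card_mul_index
      have hV0 : 0 < Nat.card V := Nat.card_pos
      have hR0 : 0 < Nat.card δ.range := Nat.card_pos
      have h4 : Nat.card (P ⧸ V.subgroupOf P) = 2 * Nat.card δ.range :=
        Nat.eq_of_mul_eq_mul_right hV0 (by rw [← h2, h1]; ring)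
      rw [h4, mul_comm 2] at h3
      exact Nat.eq_of_mul_eq_mul_left hR0 h3
    by_cases hh : p ∈ U
    · exact Or.inl hh
    refine Or.inr ⟨⟨x * p, mul_mem hxP hp⟩, ?_, rfl⟩
    show (⟨x, hxP⟩ : P) * ⟨p, hp⟩ ∈ U'
    exact (mul_mem_iff_of_index_two hidx).2 (iff_of_false (fun h5 => hxU ⟨_, h5, rfl⟩) fun h5 => hh ⟨_, h5, rfl⟩)
  · exact ⟨cj ⟨p, hp⟩ * (⟨p, hp⟩ : P)⁻¹, ⟨⟨p, hp⟩, hδ _⟩, rfl⟩

end CfsgLib.SECrit
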