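import Cfsg.Agent.Lib.Invol.SECriterion.EqType.Equal.KerSylow
import Cfsg.Agent.Lib.Invol.SECriterion.EqType.Equal.Half
import Cfsg.Agent.Lib.Invol.SECriterion.EqType.Equal.SylowTransfer

/-!
# The strong embedding criterion, equal type with `s = q`: the case `M = C_M(E) C_M(x)`

Then a Sylow subgroup `P` of `C_M(E)` is transitive on the further points and on its bad involutions, its
squares lie in `V`, and the torus splits `P / V` as `x V` and a half `U / V` normalised by `S`.  The group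
`S / U` is commutative and separates the bad involutions from the conjugates of `z`.
-/

set_option autoImplicit false
set_option linter.style.haveILetI false

namespace CfsgLib.SECrit.Eq

open CfsgLib.Invol Small

universe u

variable {G : Type u} [Group G] [Finite G] {M : Subgroup G} {z : G}

namespace EqRes

variable (h : EqRes M z)

/-- The elements of `S` centralizing `E`. -/
abbrev partP (S : Sylow 2 M) : Subgroup G :=
  SEqData.SG S ⊓ Subgroup.centralizer (h.res.grp (base M) : Set G)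

theorem commute_partP {S : Sylow 2 M} {g : G} (hg : g ∈ h.partP S) {e : G} (he : e ∈ h.res.grp (base M)) :
    Commute g e := (Subgroup.mem_centralizer_iff.1 hg.2 e he).symm

theorem bad_mem_partP {S : Sylow 2 M} {y : G} (hyS : y ∈ SEqData.SG S) (hy : Bad z y) : y ∈ h.partP S :=
  ⟨hyS, Subgroup.mem_centralizer_iff.2 fun _ he => (h.commute_grp hy (SEqData.SG_fix S hyS) he).eq.symm⟩

theorem mem_kerPart_iff {S : Sylow 2 M} {g : M} : g ∈ h.kerPart S ↔ (g : G) ∈ h.partP S := by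
  constructor
  · rintro ⟨hgS, hgK⟩
    exact ⟨(SEqData.mem_SG S).2 ⟨g.2, hgS⟩, Subgroup.mem_centralizer_iff.2 fun e he =>
      ((h.conjE_eq_one_iff.1 hgK) e he).eq.symm⟩
  · intro hg
    exact ⟨((SEqData.mem_SG S).1 hg.1).2, h.conjE_eq_one_iff.2 fun e he => h.commute_partP hg he⟩

variable (hfix : ∀ x : G, Bad z x → fix M x = deg M z + 2) (hK : NoKlein M z)
variable {x : G} (hx : Bad z x) (hxp : x • base M = base M) (S : Sylow 2 M) (hBS : h.blockK x ≤ SEqData.SG S)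
include h hfix hK hx hxp hBS

/-- **Transitivity.** -/
theorem exists_conj_part
    (hKer : ∀ T : Subgroup M, IsPGroup 2 T → T ≤ h.conjE.ker → ∃ k ∈ h.conjE.ker, ∀ t ∈ T, k * t * k⁻¹ ∈ h.kerPart S)
    (hall : ∀ y : G, Bad z y → y • base M = base M → ∃ k ∈ h.conjE.ker, (k : G) * x * (k : G)⁻¹ = y)
    {y : G} (hyS : y ∈ SEqData.SG S) (hy : Bad z y) : ∃ r ∈ h.partP S, r * x * r⁻¹ = y := by
  classical
  haveI : Fact (Nat.Prime 2) := ⟨Nat.prime_two⟩
  set K := h.conjE.ker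
  let P₁ : Subgroup K := (h.kerPart S).subgroupOf K
  have hP2 : IsPGroup 2 (h.kerPart S) := S.2.to_le inf_le_left
  have hP1 : IsPGroup 2 P₁ := hP2.of_equiv (Subgroup.subgroupOfEquivOfLe inf_le_right).symm
  obtain ⟨Q, hQ⟩ := hP1.exists_le_sylow
  obtain ⟨k, hk, hkT⟩ := hKer ((Q : Subgroup K).map K.subtype) (Q.2.map _) (by rintro _ ⟨q, -, rfl⟩; exact q.2)
  have hle : Nat.card Q ≤ Nat.card P₁ :=
    Nat.card_le_card_of_injective
      (fun q => (⟨⟨k, hk⟩ * (q : K) * (⟨k, hk⟩ : K)⁻¹, Subgroup.mem_subgroupOf.2 (hkT _ ⟨q, q.2, rfl⟩)⟩ : P₁))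
      fun a b hab => Subtype.ext (mul_left_cancel (mul_right_cancel (congrArg Subtype.val hab)))
  have hidx : ¬ 2 ∣ P₁.index := by
    rw [Subgroup.eq_of_le_of_card_ge hQ hle]
    exact Q.not_dvd_index
  obtain ⟨a, hap, hxa⟩ := h.res.bad_two_fix hx hxp
  obtain ⟨hcover, hsep⟩ := (h.bad_in_blockK hfix hK hx hxp S hBS).2.2
  -- the orbit of the kernel
  have hEK : ∀ e ∈ h.res.grp (base M), ∃ hm : e ∈ M, (⟨e, hm⟩ : M) ∈ K := fun e he =>
    ⟨smul_base_iff.1 (h.res.grp_smul he), h.conjE_eq_one_iff.2 fun d hd => h.res.grp_commute he hd⟩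
  have horb : MulAction.orbit K a = {b : G ⧸ M | b ≠ base M} := by
    ext b
    constructor
    · rintro ⟨g, rfl⟩ hgb
      exact hap (smul_left_cancel ((g : M) : G) (hgb.trans (smul_base_iff.2 (g : M).2).symm))
    · intro hb
      obtain ⟨w, hwS, hw, hwb⟩ := hcover b hb
      obtain ⟨g, hg, hgw⟩ := hall w hw (SEqData.SG_fix S hwS)
      have hgb : x • ((g : G)⁻¹ • b) = (g : G)⁻¹ • b := by
        rw [eq_inv_smul_iff, smul_smul, smul_smul, hgw, hwb]
      have hgp : (g : G)⁻¹ • b ≠ base M := fun hh => hb (by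
        rw [inv_smul_eq_iff, smul_base_iff.2 g.2] at hh
        exact hh)
      obtain ⟨e, he, hea⟩ := h.exists_grp_smul hfix hx hxp hxa hap hgb hgp
      obtain ⟨hem, heK⟩ := hEK e he
      refine ⟨⟨g * ⟨e, hem⟩, mul_mem hg heK⟩, ?_⟩
      show ((g : G) * e) • a = b
      rw [mul_smul, hea, smul_inv_smul]
  have hcard : (MulAction.stabilizer K a).index = Nat.card (h.res.grp (base M)) ^ 3 := by
    rw [MulAction.index_stabilizer, horb, ← Nat.card_coe_set_eq]
    exact h.card_other hfix hx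
  have hstab : MulAction.stabilizer P₁ a = (MulAction.stabilizer K a).subgroupOf P₁ := rfl
  have hdvd : Nat.card (h.res.grp (base M)) ^ 3 ∣ (MulAction.stabilizer P₁ a).index := by
    obtain ⟨n, hn⟩ := IsPGroup.iff_card.1 (h.res.isPGroup_grp (base M))
    have h1 : (MulAction.stabilizer K a).index ∣ (MulAction.stabilizer K a ⊓ P₁).index :=
      Subgroup.index_dvd_of_le inf_le_left
    rw [← Subgroup.relIndex_mul_index (H := MulAction.stabilizer K a ⊓ P₁) inf_le_right,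
      Subgroup.inf_relIndex_right, hcard, hn, ← pow_mul] at h1
    rw [hn, ← pow_mul, hstab]
    exact ((Nat.Prime.coprime_iff_not_dvd Nat.prime_two).2 hidx).pow_left _ |>.dvd_of_dvd_mul_right h1
  have horb' : MulAction.orbit P₁ a = {b : G ⧸ M | b ≠ base M} := by
    have hsub : MulAction.orbit P₁ a ⊆ {b : G ⧸ M | b ≠ base M} := by
      rintro _ ⟨g, rfl⟩
      rw [← horb]
      exact ⟨g, rfl⟩
    refine Set.eq_of_subset_of_ncard_le hsub ?_ (Set.toFinite _)
    rw [← horb, ← MulAction.index_stabilizer, hcard, ← MulAction.index_stabilizer]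
    exact Nat.le_of_dvd (Nat.pos_of_ne_zero Subgroup.index_ne_zero_of_finite) hdvd
  obtain ⟨b, hbp, hyb⟩ := h.res.bad_two_fix hy (SEqData.SG_fix S hyS)
  obtain ⟨r, hr⟩ : b ∈ MulAction.orbit P₁ a := by rw [horb']; exact hbp
  have hrP : ((r : K) : M).1 ∈ h.partP S := h.mem_kerPart_iff.1 r.2
  refine ⟨_, hrP, hsep _ _ ?_ (hx.conj _) hyS hy b hbp ?_ hyb⟩
  · exact mul_mem (mul_mem hrP.1 (hBS (h.centA_le_blockK hfix hx hxp (h.self_mem_centA hx hxp)))) (inv_mem hrP.1)
  · rw [← show ((r : K) : M).1 • a = b from hr, smul_smul, inv_mul_cancel_right, mul_smul, hxa]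

/-- The difference of `x` and a conjugate under `S`. -/
theorem diff_mem {g : G} (hg : g ∈ SEqData.SG S) : x * (g * x * g⁻¹) ∈ h.diffV hfix hK hx hxp S hBS := by
  have hxS : x ∈ SEqData.SG S := hBS (h.centA_le_blockK hfix hx hxp (h.self_mem_centA hx hxp))
  refine ⟨mul_mem (h.centA_le_blockK hfix hx hxp (h.self_mem_centA hx hxp))
    ((h.bad_in_blockK hfix hK hx hxp S hBS).1 _ (mul_mem (mul_mem hg hxS) (inv_mem hg)) (hx.conj g)), ?_⟩
  rw [← mul_assoc, invol_mul_self hx.invol, one_mul]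
  exact hx.conj g

/-- **The translation of a conjugate.** -/
theorem exists_transHom : ∃ μ : h.partP S →* h.res.grp (base M),
    (∀ p : h.partP S, μ p = 1 ↔ (p : G) ∈ h.blockK x) ∧
      ∀ p : h.partP S, (μ p : G) = x * ((p : G) * x * (p : G)⁻¹) * (x * ((p : G) * x * (p : G)⁻¹)) := by
  set V := h.diffV hfix hK hx hxp S hBS
  have hv : ∀ p : h.partP S, x * ((p : G) * x * (p : G)⁻¹) ∈ V := fun p => h.diff_mem hfix hK hx hxp S hBS p.2.1
  have hxx := invol_mul_self hx.invol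
  let μ : h.partP S →* h.res.grp (base M) := MonoidHom.mk' (fun p => ⟨_, h.sq_diffV hfix hK hx hxp S hBS (hv p)⟩) ?_
  swap
  · intro p r
    refine Subtype.ext ?_
    show x * (((p * r : h.partP S) : G) * x * ((p * r : h.partP S) : G)⁻¹) *
        (x * (((p * r : h.partP S) : G) * x * ((p * r : h.partP S) : G)⁻¹)) = _
    set a := x * ((p : G) * x * (p : G)⁻¹) with ha
    set b₀ := x * ((r : G) * x * (r : G)⁻¹) with hb₀
    set b := (p : G) * b₀ * (p : G)⁻¹ with hb
    have h1 : x * (((p * r : h.partP S) : G) * x * ((p * r : h.partP S) : G)⁻¹) = a * b := by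
      rw [ha, hb, hb₀, Subgroup.coe_mul]
      calc x * ((p : G) * r * x * ((p : G) * r)⁻¹) = x * (p : G) * ((x * x) * ((r : G) * x * (r : G)⁻¹)) * (p : G)⁻¹ := by
            rw [hxx]; group
        _ = _ := by group
    have hbV : b ∈ V := (h.conj_diffV hfix hK hx hxp S hBS (h.normalize_blockK hfix hK hx hxp S hBS p.2.1)).1 (hv r)
    have h2 : b * b = b₀ * b₀ := by
      rw [show b * b = (p : G) * (b₀ * b₀) * (p : G)⁻¹ by rw [hb]; group,
        (h.commute_partP p.2 (h.sq_diffV hfix hK hx hxp S hBS (hv r))).eq, mul_inv_cancel_right]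
    rw [h1]
    show a * b * (a * b) = (a * a) * (b₀ * b₀)
    rw [← h2, show a * b * (a * b) = a * (b * a) * b by group,
      show b * a = a * b from h.comm_diffV hfix hK hx hxp S hBS hbV (hv p)]
    group
  refine ⟨μ, fun p => ⟨fun hp => ?_, fun hp => ?_⟩, fun p => rfl⟩
  · have h1 := h.mem_grp_of_sq hfix hK hx hxp S hBS (hv p) (congrArg Subtype.val hp)
    refine ⟨SEqData.SG_fix S p.2.1, fun e he => h.commute_partP p.2 he, _, h1, ?_⟩
    rw [← (h.commute_grp hx hxp h1).eq, ← mul_assoc, hxx, one_mul]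
  · obtain ⟨-, -, e, he, hpe⟩ := hp
    refine Subtype.ext ?_
    show x * ((p : G) * x * (p : G)⁻¹) * (x * ((p : G) * x * (p : G)⁻¹)) = 1
    rw [hpe, show x * (e * x) = e by rw [← mul_assoc, (h.commute_grp hx hxp he).eq, mul_assoc, hxx, mul_one]]
    exact h.res.grp_sq he

/-- Squares in the part of `S` centralizing `E`. -/
theorem sq_partP {g : G} (hg : g ∈ h.partP S) : g * g ∈ h.diffV hfix hK hx hxp S hBS := by
  obtain ⟨μ, hμ, -⟩ := h.exists_transHom hfix hK hx hxp S hBS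
  have h1 : g * g ∈ h.blockK x := by
    refine (hμ (⟨g, hg⟩ * ⟨g, hg⟩)).1 ?_
    rw [map_mul]
    exact Subtype.ext (h.res.grp_sq (μ ⟨g, hg⟩).2)
  refine (h.mem_diffV hfix hK hx hxp S hBS).2 ⟨h1, fun hb => invol_ne_one hb.invol ?_⟩
  exact h.centA_sq hfix hb h1.1
    ⟨SEqData.SG_fix S hg.1, (Commute.refl g).mul_right (Commute.refl g), fun e he => h.commute_partP hg he⟩

omit hK hx hxp hBS in
/-- **No fusion through `C_M(x)` alone.** -/
theorem false_of_centImage_top (hS : Setup M z) (hloc : ∀ x : G, IsBad M x → Local M z x) {x : G} (hx : Bad z x)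
    (hxp : x • base M = base M) (htop : h.centImage x = ⊤) : False := by
  classical
  haveI : Fact (Nat.Prime 2) := ⟨Nat.prime_two⟩
  have hK := h.noKlein hfix hS hloc
  obtain ⟨C, hC, hCcyc, hCle, hCn⟩ := h.exists_torus_group hfix hS hloc hx hxp
  obtain ⟨S, hBS, hKer, hFr⟩ := h.exists_kerSylow hfix hK hx hxp
  set P := h.partP S with hP
  set V := h.diffV hfix hK hx hxp S hBS with hV
  set B := h.blockK x with hB
  have hxx := invol_mul_self hx.invol
  have hxB : x ∈ B := h.centA_le_blockK hfix hx hxp (h.self_mem_centA hx hxp)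
  have hxP : x ∈ P := h.bad_mem_partP (hBS hxB) hx
  have hxM : x ∈ M := smul_base_iff.1 hxp
  -- conjugation by the kernel
  have hall : ∀ y : G, Bad z y → y • base M = base M → ∃ k ∈ h.conjE.ker, (k : G) * x * (k : G)⁻¹ = y := by
    intro y hy hyp
    obtain ⟨g, rfl⟩ := isConj_iff.1 (h.isConj_bad hfix hK hx hy)
    have hxb : x • (g⁻¹ • base M) = g⁻¹ • base M := by
      have := congrArg (g⁻¹ • ·) hyp
      simpa [smul_smul, mul_assoc] using this
    obtain ⟨k, hk⟩ : ∃ k : M, (k : G) * x * (k : G)⁻¹ = g * x * g⁻¹ := by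
      by_cases hb : g⁻¹ • base M = base M
      · exact ⟨⟨g, smul_base_iff.1 (inv_smul_eq_iff.1 hb).symm⟩, rfl⟩
      obtain ⟨c, -, hc, hxc⟩ := h.res.crit.exists_commuting_swap (Crit.isPGroup_zpowers_invol hx.invol)
        (Ne.symm hb) (Crit.forall_zpowers_fix hxp) (Crit.forall_zpowers_fix hxb)
      refine ⟨⟨g * c, smul_base_iff.1 (by rw [mul_smul, hc, smul_inv_smul])⟩, ?_⟩
      show g * c * x * (g * c)⁻¹ = g * x * g⁻¹
      rw [show g * c * x * (g * c)⁻¹ = g * (c * x * c⁻¹) * g⁻¹ by group,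
        ← (hxc x (Subgroup.mem_zpowers x)).eq, mul_inv_cancel_right]
    obtain ⟨m, hmx, hm⟩ := h.mem_centImage.1
      (show h.conjE.rangeRestrict k ∈ h.centImage x by rw [htop]; exact Subgroup.mem_top _)
    refine ⟨k * m⁻¹, ?_, ?_⟩
    · rw [MonoidHom.mem_ker, map_mul, map_inv, show h.conjE m = h.conjE k from congrArg Subtype.val hm,
        mul_inv_cancel]
    · show (k : G) * (m : G)⁻¹ * x * ((k : G) * (m : G)⁻¹)⁻¹ = g * x * g⁻¹
      rw [← hk, show (k : G) * (m : G)⁻¹ * x * ((k : G) * (m : G)⁻¹)⁻¹ =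
        (k : G) * ((m : G)⁻¹ * (x * m)) * (k : G)⁻¹ by group, ← hmx.eq, inv_mul_cancel_left]
  have htrans := fun {y : G} (hyS : y ∈ SEqData.SG S) (hy : Bad z y) =>
    h.exists_conj_part hfix hK hx hxp S hBS hKer hall hyS hy
  obtain ⟨μ, hμ, hμval⟩ := h.exists_transHom hfix hK hx hxp S hBS
  -- `P` and `V` under `S`
  have hPS : ∀ {s : G}, s ∈ SEqData.SG S → ∀ g ∈ P, s * g * s⁻¹ ∈ P := by
    intro s hs g hg
    refine ⟨(SEqData.SG S).mul_mem ((SEqData.SG S).mul_mem hs hg.1) ((SEqData.SG S).inv_mem hs),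
      Subgroup.mem_centralizer_iff.2 fun e he => ?_⟩
    have h1 : s⁻¹ * e * s ∈ h.res.grp (base M) := by
      simpa using h.res.grp_conj (SEqData.SG_fix S (inv_mem hs)) he
    have h2 := Commute.map (h.commute_partP hg h1) (MulAut.conj s).toMonoidHom
    simp [mul_assoc] at h2
    simpa [mul_assoc] using h2.eq.symm
  have hVS : ∀ {s : G}, s ∈ SEqData.SG S → ∀ v ∈ V, s * v * s⁻¹ ∈ V := fun hs v hv =>
    (h.conj_diffV hfix hK hx hxp S hBS (h.normalize_blockK hfix hK hx hxp S hBS hs)).1 hv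
  have hVP : V ≤ P := fun v hv => ⟨hBS hv.1, Subgroup.mem_centralizer_iff.2 fun e he => (hv.1.2.1 e he).eq.symm⟩
  -- the generator
  obtain ⟨γ, hγ⟩ := hCcyc.exists_generator
  obtain ⟨m, hmx, hm⟩ := h.mem_centImage.1 (hCle γ.2)
  obtain ⟨n, hnm, hn⟩ := hFr m
  have hxk : (⟨x, hxM⟩ : M) ∈ h.kerPart S := h.mem_kerPart_iff.2 hxP
  have hny : (n : G) * x * (n : G)⁻¹ ∈ P := h.mem_kerPart_iff.1 ((hn _).1 hxk)
  obtain ⟨r, hr, hrx⟩ := htrans hny.1 (hx.conj (n : G))
  have hrM : r ∈ M := SEqData.SG_le S hr.1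
  set c : G := r⁻¹ * (n : G) with hc
  have hcM : c ∈ M := mul_mem (inv_mem hrM) n.2
  have hcp : c • base M = base M := smul_base_iff.2 hcM
  have hcx : Commute c x := by
    refine mul_inv_eq_iff_eq_mul.1 ?_
    rw [hc, show r⁻¹ * (n : G) * x * (r⁻¹ * (n : G))⁻¹ = r⁻¹ * ((n : G) * x * (n : G)⁻¹) * r by group, ← hrx]
    group
  have hcg : h.conjE.rangeRestrict ⟨c, hcM⟩ = (γ : h.conjE.range) := by
    rw [← hm]
    refine Subtype.ext ?_
    show h.conjE ((⟨r, hrM⟩ : M)⁻¹ * n) = h.conjE m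
    have h1 : h.conjE (⟨r, hrM⟩ : M) = 1 := h.conjE_eq_one_iff.2 fun e he => h.commute_partP hr he
    have h2 : h.conjE (n⁻¹ * m) = 1 := hnm
    rw [map_mul, map_inv, inv_mul_eq_one] at h2
    rw [map_mul, map_inv, h1, inv_one, one_mul, h2]
  have hcP : ∀ g ∈ P, c * g * c⁻¹ ∈ P := by
    intro g hg
    have h1 : (n : G) * g * (n : G)⁻¹ ∈ P :=
      h.mem_kerPart_iff.1 ((hn ⟨g, SEqData.SG_le S hg.1⟩).1 (h.mem_kerPart_iff.2 hg))
    rw [hc, show r⁻¹ * (n : G) * g * (r⁻¹ * (n : G))⁻¹ = r⁻¹ * ((n : G) * g * (n : G)⁻¹) * r by group]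
    exact mul_mem (mul_mem (inv_mem hr) h1) hr
  have hcV : ∀ v ∈ V, c * v * c⁻¹ ∈ V := by
    intro v hv
    refine (h.conj_diffV hfix hK hx hxp S hBS fun b => ⟨h.conj_blockK hx hxp hcp hcx, fun hb => ?_⟩).1 hv
    have h2 := h.conj_blockK hx hxp (inv_smul_eq_iff.2 hcp.symm) hcx.inv_left hb
    simpa [mul_assoc] using h2
  have hxV : x ∉ V := fun hh => ((h.mem_diffV hfix hK hx hxp S hBS).1 hh).2 hx
  have hBiff : ∀ g, g ∈ B ↔ g ∈ V ∨ x * g ∈ V := by
    intro g
    constructor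
    · intro hg
      by_cases hb : Bad z g
      · exact Or.inr ⟨mul_mem hxB hg, by rwa [← mul_assoc, hxx, one_mul]⟩
      · exact Or.inl ((h.mem_diffV hfix hK hx hxp S hBS).2 ⟨hg, hb⟩)
    · rintro (hg | hg)
      · exact hg.1
      · have := mul_mem hxB hg.1
        rwa [← mul_assoc, hxx, one_mul] at this
  have hq : 3 ≤ Nat.card (h.res.grp (base M)) := by
    rw [h.res.card_grp]
    have := h.two_le
    omega
  have hγ1 : (γ : h.conjE.range) ≠ 1 := by
    intro e1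
    obtain ⟨d, e, hd, he, hdp, hep, hne⟩ := h.exists_two
    obtain ⟨g, hg, hge⟩ := hC.trans ⟨d, Or.inr ⟨hd, hdp⟩⟩ ⟨e, Or.inr ⟨he, hep⟩⟩
      (fun hh => invol_ne_one (h.res.crit.orderOf_conj hd) (congrArg Subtype.val hh))
      (fun hh => invol_ne_one (h.res.crit.orderOf_conj he) (congrArg Subtype.val hh))
    obtain ⟨i, hi⟩ := hγ ⟨g, hg⟩
    have : g = 1 := by
      rw [show g = ((γ ^ i : C) : h.conjE.range) from congrArg Subtype.val hi.symm, Subgroup.coe_zpow, e1, one_zpow]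
    rw [this, one_smul] at hge
    exact hne (congrArg Subtype.val hge)
  have hfixB : ∀ p ∈ P, c * p * c⁻¹ * p⁻¹ ∈ B → p ∈ B := by
    intro p hp hh
    by_contra hpB
    set p' : P := ⟨c * p * c⁻¹, hcP p hp⟩
    have h1 : μ (p' * (⟨p, hp⟩ : P)⁻¹) = 1 := (hμ _).2 hh
    rw [map_mul, map_inv, mul_inv_eq_one] at h1
    have h2 : (γ : h.conjE.range) • μ ⟨p, hp⟩ = μ ⟨p, hp⟩ := by
      refine Subtype.ext (Eq.trans ?_ (congrArg Subtype.val h1))
      rw [← hcg]
      show c * (μ ⟨p, hp⟩ : G) * c⁻¹ = (μ p' : G)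
      rw [hμval, hμval]
      show c * (x * (p * x * p⁻¹) * (x * (p * x * p⁻¹))) * c⁻¹ =
        x * (c * p * c⁻¹ * x * (c * p * c⁻¹)⁻¹) * (x * (c * p * c⁻¹ * x * (c * p * c⁻¹)⁻¹))
      have hx' : x = c * x * c⁻¹ := by rw [hcx.eq, mul_inv_cancel_right]
      conv_rhs => rw [hx']
      group
    exact hγ1 (hC.eq_one_of_fix γ.2 (fun e1 => hpB ((hμ ⟨p, hp⟩).1 e1)) h2)
  obtain ⟨U, hVU, hUP, hxU, hUtwo, hUc, hUmem⟩ := exists_half P V B hVP (fun g hg => hVS hg.1)
    (fun g hg => h.sq_partP hfix hK hx hxp S hBS hg) hcP hcV hxP hxV hcx hBiff hfixB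
  -- commutators of `P`
  have hcomm : ∀ a ∈ P, ∀ b ∈ P, a * b * a⁻¹ * b⁻¹ ∈ V := by
    intro a ha b hb
    have := mul_mem (mul_mem (h.sq_partP hfix hK hx hxp S hBS ha)
      (h.sq_partP hfix hK hx hxp S hBS (mul_mem (inv_mem ha) hb))) (inv_mem (h.sq_partP hfix hK hx hxp S hBS hb))
    rwa [show a * a * (a⁻¹ * b * (a⁻¹ * b)) * (b * b)⁻¹ = a * b * a⁻¹ * b⁻¹ by group] at this
  have hUP' : ∀ a ∈ P, ∀ u ∈ U, a * u * a⁻¹ ∈ U := fun a ha u hu => by
    have := mul_mem (hVU (hcomm a ha u (hUP hu))) hu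
    rwa [inv_mul_cancel_right] at this
  -- commutators with elements in the coset of a power of `c`
  have hpow : ∀ (i : ℕ), ∀ k ∈ P, ∀ p ∈ P, c ^ i * k * p * (c ^ i * k)⁻¹ * p⁻¹ ∈ U := by
    intro i
    induction i with
    | zero =>
      intro k hk p hp
      rw [pow_zero, one_mul]
      exact hVU (hcomm k hk p hp)
    | succ i ih =>
      intro k hk p hp
      have h1 := ih k hk p hp
      have h2 : c ^ i * k * p * (c ^ i * k)⁻¹ ∈ P := by
        have := mul_mem (hUP h1) hp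
        rwa [inv_mul_cancel_right] at this
      have := mul_mem (hUc _ h2) h1
      rwa [show c * (c ^ i * k * p * (c ^ i * k)⁻¹) * c⁻¹ * (c ^ i * k * p * (c ^ i * k)⁻¹)⁻¹ *
          (c ^ i * k * p * (c ^ i * k)⁻¹ * p⁻¹) = c ^ (i + 1) * k * p * (c ^ (i + 1) * k)⁻¹ * p⁻¹ by
        rw [pow_succ']; group] at this
  -- `S` normalises `U`
  have hUS : ∀ s ∈ SEqData.SG S, ∀ u ∈ U, s * u * s⁻¹ ∈ U := by
    intro s hs u hu
    obtain ⟨t, ht, htx⟩ := htrans (mul_mem (mul_mem hs (hBS hxB)) (inv_mem hs)) (hx.conj s)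
    set s' := t⁻¹ * s with hs'
    have hs'S : s' ∈ SEqData.SG S := mul_mem (inv_mem ht.1) hs
    have hs'x : Commute s' x := by
      refine mul_inv_eq_iff_eq_mul.1 ?_
      rw [hs', show t⁻¹ * s * x * (t⁻¹ * s)⁻¹ = t⁻¹ * (s * x * s⁻¹) * t by group, ← htx]
      group
    suffices hh : s' * u * s'⁻¹ ∈ U by
      have := hUP' t ht _ hh
      rwa [hs', show t * (t⁻¹ * s * u * (t⁻¹ * s)⁻¹) * t⁻¹ = s * u * s⁻¹ by group] at this
    obtain ⟨p, hp, hpv⟩ := hUmem u hu
    set w := c * p * c⁻¹ * p⁻¹ with hw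
    rw [show s' * u * s'⁻¹ = (s' * w * s'⁻¹) * (s' * (w⁻¹ * u) * s'⁻¹) by group]
    refine mul_mem ?_ (hVU (hVS hs'S _ hpv))
    -- the conjugate of `c`
    set sM : M := ⟨s', SEqData.SG_le S hs'S⟩ with hsM
    set d : M := sM * ⟨c, hcM⟩ * sM⁻¹ with hd
    have hdx : Commute (d : G) x := (hs'x.mul_left hcx).mul_left hs'x.inv_left
    have hdC : h.conjE.rangeRestrict d ∈ C := by
      rw [hd, map_mul, map_mul, map_inv, hcg]
      exact hCn _ (by rw [htop]; exact Subgroup.mem_top _) _ γ.2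
    obtain ⟨i, hi⟩ := mem_powers_iff_mem_zpowers.2 (hγ ⟨_, hdC⟩)
    have hik : h.conjE ((⟨c, hcM⟩ : M) ^ i) = h.conjE d := by
      have h1 : ((γ : h.conjE.range) ^ i) = h.conjE.rangeRestrict d := by
        rw [← Subgroup.coe_pow]; exact congrArg Subtype.val hi
      rw [← hcg, ← map_pow] at h1
      exact congrArg Subtype.val h1
    have hkP : (c ^ i)⁻¹ * (d : G) ∈ P := by
      have hkA : (c ^ i)⁻¹ * (d : G) ∈ h.centA x := by
        refine ⟨smul_base_iff.2 (mul_mem (inv_mem (pow_mem hcM i)) d.2), ((hcx.pow_left i).inv_left).mul_left hdx, ?_⟩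
        exact (h.conjE_eq_one_iff (m := ((⟨c, hcM⟩ : M) ^ i)⁻¹ * d)).1 (by rw [map_mul, map_inv, hik, inv_mul_cancel])
      have hkB := h.centA_le_blockK hfix hx hxp hkA
      exact ⟨hBS hkB, Subgroup.mem_centralizer_iff.2 fun e he => (hkB.2.1 e he).eq.symm⟩
    have := hpow i _ hkP _ (hPS hs'S p hp)
    rwa [mul_inv_cancel_left, show (d : G) = s' * c * s'⁻¹ from rfl,
      show s' * c * s'⁻¹ * (s' * p * s'⁻¹) * (s' * c * s'⁻¹)⁻¹ * (s' * p * s'⁻¹)⁻¹ = s' * w * s'⁻¹ by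
        rw [hw]; group] at this
  -- the quotient
  set T := SEqData.SG S with hT
  haveI hUn : (U.subgroupOf T).Normal :=
    ⟨fun v hv g => Subgroup.mem_subgroupOf.2 (hUS _ g.2 _ (Subgroup.mem_subgroupOf.1 hv))⟩
  let incl : T →* M := Subgroup.inclusion (SEqData.SG_le S)
  let f : T →* h.conjE.range := h.conjE.rangeRestrict.comp incl
  have hf : ∀ t : T, f t = 1 → (t : G) ∈ P := fun t ht =>
    ⟨t.2, Subgroup.mem_centralizer_iff.2 fun e he =>
      ((h.conjE_eq_one_iff.1 (congrArg Subtype.val ht :)) e he).eq.symm⟩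
  have hUf : U.subgroupOf T ≤ f.rangeRestrict.ker := fun t ht =>
    MonoidHom.mem_ker.2 (Subtype.ext (Subtype.ext (h.conjE_eq_one_iff.2 fun e he =>
      h.commute_partP (hUP (Subgroup.mem_subgroupOf.1 ht)) he)))
  let fbar : T ⧸ U.subgroupOf T →* f.range := QuotientGroup.lift _ f.rangeRestrict hUf
  -- the image of `S` is cyclic
  have hD2 : IsPGroup 2 f.range := (SEqData.isPGroup_SG S).of_surjective f.rangeRestrict f.rangeRestrict_surjective
  obtain ⟨β, hβ⟩ := IsPGroup.iff_card.1 (h.res.isPGroup_grp (base M))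
  have hcyc : IsCyclic f.range := by
    have h2dvd : 2 ∣ Nat.card (h.res.grp (base M)) := by
      rw [hβ]
      refine dvd_pow_self 2 fun e1 => ?_
      rw [hβ, e1, pow_zero] at hq
      omega
    obtain ⟨e, he, hne⟩ := hD2.exists_fixed_point_of_prime_dvd_card_of_fixed_point (h.res.grp (base M)) h2dvd
      (a := (1 : h.res.grp (base M))) (fun g => smul_one g)
    exact (hC.fix_normalizer hβ f.range (Ne.symm hne) (fun g hg => he ⟨g, hg⟩)
      (fun g _ => hCn g (by rw [htop]; exact Subgroup.mem_top g))).2.1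
  have hcen : fbar.ker ≤ Subgroup.center (T ⧸ U.subgroupOf T) := by
    intro a ha
    obtain ⟨t, rfl⟩ := QuotientGroup.mk_surjective a
    have htP : (t : G) ∈ P := hf t (congrArg Subtype.val (MonoidHom.mem_ker.1 ha :))
    rw [Subgroup.mem_center_iff]
    intro b
    obtain ⟨s, rfl⟩ := QuotientGroup.mk_surjective b
    rw [← QuotientGroup.mk_mul, ← QuotientGroup.mk_mul, QuotientGroup.eq, Subgroup.mem_subgroupOf]
    show ((s : G) * t)⁻¹ * ((t : G) * s) ∈ U
    rcases hUtwo _ htP with h1 | h1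
    · have := mul_mem (inv_mem h1) (hUS _ (inv_mem s.2) _ h1)
      rwa [inv_inv, show (t : G)⁻¹ * ((s : G)⁻¹ * t * s) = ((s : G) * t)⁻¹ * ((t : G) * s) by group] at this
    · -- `t = x u`
      set u := x * (t : G) with hu
      have htu : (t : G) = x * u := by rw [hu, ← mul_assoc, hxx, one_mul]
      have h2 : (s : G)⁻¹ * x * s * x⁻¹ ∈ U := by
        obtain ⟨r', hr', hrx'⟩ := htrans (mul_mem (mul_mem (inv_mem s.2) (hBS hxB)) (inv_mem (inv_mem s.2)))
          (hx.conj (s : G)⁻¹)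
        have := hVU (hcomm r' hr' x hxP)
        rwa [hrx', inv_inv] at this
      rw [htu, show ((s : G) * (x * u))⁻¹ * (x * u * s) =
        u⁻¹ * (x⁻¹ * (((s : G)⁻¹ * x * s * x⁻¹) * x)) * ((s : G)⁻¹ * u * s) by group]
      refine mul_mem (mul_mem (inv_mem h1) ?_) ?_
      · have := hUP' x⁻¹ (inv_mem hxP) _ h2
        rwa [inv_inv, mul_assoc] at this
      · have := hUS _ (inv_mem s.2) _ h1
        rwa [inv_inv] at this
  letI : CommGroup (T ⧸ U.subgroupOf T) := { (inferInstance : Group (T ⧸ U.subgroupOf T)) with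
    mul_comm := fun a b => (fbar.isMulCommutative_of_isCyclic_of_ker_le_center hcen).is_comm.comm a b }
  -- transfer
  have hodd : Odd T.index := by
    have hTM : T ≤ M := SEqData.SG_le S
    have h1 := Subgroup.relIndex_mul_index hTM
    have h2 : T.relIndex M = (S : Subgroup M).index := by
      show (T.subgroupOf M).index = _
      rw [show T.subgroupOf M = (S : Subgroup M) from Subgroup.ext fun g =>
        Subgroup.mem_subgroupOf.trans ((SEqData.mem_SG S).trans ⟨fun ⟨_, hg⟩ => hg, fun hg => ⟨g.2, hg⟩⟩)]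
    rw [← h1, h2]
    exact (Nat.not_even_iff_odd.1 fun hev => S.not_dvd_index hev.two_dvd).mul h.res.crit.odd_index
  refine not_mem_normalClosure_of_hom hodd (QuotientGroup.mk' (U.subgroupOf T)) h.res.crit.invol hx.invol ?_
    (ε := (QuotientGroup.mk' (U.subgroupOf T)) ⟨x, hBS hxB⟩) ?_ ?_ (h.res.gen ▸ Subgroup.mem_top x)
  · intro g hm
    refine (QuotientGroup.eq_one_iff _).2 (Subgroup.mem_subgroupOf.2 (hVU ?_))
    exact h.grp_le_diffV hfix hK hx hxp S hBS
      (Or.inr ⟨isConj_iff.2 ⟨g⁻¹, by rw [inv_inv]⟩, SEqData.SG_fix S hm⟩)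
  · exact fun hh => hxU (Subgroup.mem_subgroupOf.1 ((QuotientGroup.eq_one_iff _).1 hh))
  · intro g hm
    obtain ⟨r', hr', hrx'⟩ := htrans hm (by have := hx.conj g⁻¹; rwa [inv_inv] at this)
    refine QuotientGroup.eq.2 (Subgroup.mem_subgroupOf.2 ?_)
    show (g⁻¹ * x * g)⁻¹ * x ∈ U
    rw [← hrx']
    have := hVU (hcomm r' hr' x⁻¹ (inv_mem hxP))
    rwa [inv_inv, show r' * x⁻¹ * r'⁻¹ * x = (r' * x * r'⁻¹)⁻¹ * x by group] at this

end EqRes

end CfsgLib.SECrit.Eq
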