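import Cfsg.Agent.Lib.Invol.SECriterion.EqType.Equal.Block
import Cfsg.Agent.Lib.Invol.SECriterion.SignKill
import Mathlib.Algebra.Module.ZMod
import Mathlib.LinearAlgebra.Determinant
import Mathlib.LinearAlgebra.FiniteDimensional.Basic

/-!
# The strong embedding criterion, equal type with `s = q = 2 ^ n`: `n` odd

The other half `V` of the block is free of rank `n` over `ZMod 4` and a Sylow subgroup `S` of `M` normalises
it.  Every bad involution of `S` inverts `V`, so the determinant is `-1` on it: the kernel is a subgroup of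
index two in `S` without a conjugate of `x`.
-/

set_option autoImplicit false
set_option linter.style.haveILetI false

namespace CfsgLib.SECrit.Eq

open CfsgLib.Invol Small

/-- An abelian group of order `4 ^ n` with squaring onto its involutions is free over `ZMod 4`. -/
theorem exists_equiv_zmod_four {A : Type*} [AddCommGroup A] [Finite A] [Module (ZMod 4) A] (E : AddSubgroup A)
    {n : ℕ} (hE : Nat.card E = 2 ^ n) (hA : Nat.card A = 4 ^ n) (hE2 : ∀ e ∈ E, e + e = 0)
    (hsq : ∀ a : A, a + a ∈ E) (hker : ∀ a : A, a + a = 0 → a ∈ E) (hsurj : ∀ e ∈ E, ∃ a : A, a + a = e) :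
    Nonempty ((Fin n → ZMod 4) ≃ₗ[ZMod 4] A) := by
  classical
  haveI : Fact (Nat.Prime 2) := ⟨Nat.prime_two⟩
  letI : Module (ZMod 2) E := AddCommGroup.zmodModule fun e => Subtype.ext (by
    show ((2 • e : E) : A) = 0
    rw [AddSubgroup.coe_nsmul, two_nsmul]
    exact hE2 e e.2)
  haveI : Module.Finite (ZMod 2) E := Module.Finite.of_finite
  have hrank : Module.finrank (ZMod 2) E = n := by
    have h1 := Module.natCard_eq_pow_finrank (K := ZMod 2) (V := E)
    rw [hE, Nat.card_zmod] at h1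
    exact (Nat.pow_right_injective le_rfl h1).symm
  let b : Module.Basis (Fin n) (ZMod 2) E := (Module.finBasis (ZMod 2) E).reindex (finCongr hrank)
  choose v hv using fun i : Fin n => hsurj (b i) (b i).2
  let f : (Fin n → ZMod 4) →ₗ[ZMod 4] A := Fintype.linearCombination (ZMod 4) v
  have hfv : ∀ i, v i ∈ LinearMap.range f := fun i => ⟨Pi.single i 1, by
    simp [f, Fintype.linearCombination_apply_single]⟩
  -- the doubles of the range fill `E`
  have hdbl : ∀ e : E, ∃ w ∈ LinearMap.range f, w + w = (e : A) := by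
    intro e
    let T : AddSubgroup E :=
      { carrier := {e | ∃ w ∈ LinearMap.range f, w + w = (e : A)}
        zero_mem' := ⟨0, zero_mem _, by simp⟩
        add_mem' := fun {e e'} ⟨w, hw, h1⟩ ⟨w', hw', h2⟩ => ⟨w + w', add_mem hw hw', by
          rw [AddSubgroup.coe_add, ← h1, ← h2]; abel⟩
        neg_mem' := fun {e} ⟨w, hw, h1⟩ => ⟨-w, neg_mem hw, by
          rw [AddSubgroup.coe_neg, ← h1]; abel⟩ }
    let T' : Submodule (ZMod 2) E := T.toZModSubmodule 2
    have hb : Set.range b ⊆ (T' : Set E) := by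
      rintro _ ⟨i, rfl⟩
      exact ⟨v i, hfv i, hv i⟩
    have : e ∈ T' := (Submodule.span_le.2 hb) (b.span_eq ▸ Submodule.mem_top)
    exact this
  have hsur : Function.Surjective f := by
    intro a
    obtain ⟨w, hw, hwa⟩ := hdbl ⟨a + a, hsq a⟩
    have hk : a - w ∈ E := hker _ (by
      calc a - w + (a - w) = (a + a) - (w + w) := by abel
        _ = 0 := by rw [hwa]; exact sub_self _)
    obtain ⟨w', hw', hwa'⟩ := hdbl ⟨a - w, hk⟩
    have : a ∈ LinearMap.range f := by
      rw [show a = (w' + w') + w by rw [hwa']; simp]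
      exact add_mem (add_mem hw' hw') hw
    exact this
  have hbij : Function.Bijective f := (Nat.bijective_iff_surjective_and_card f).2
    ⟨hsur, by rw [hA, Nat.card_fun, Nat.card_zmod, Nat.card_eq_fintype_card, Fintype.card_fin]⟩
  exact ⟨LinearEquiv.ofBijective f hbij⟩

variable {G : Type*} [Group G] [Finite G] {M : Subgroup G} {z : G}

namespace EqRes

variable (h : EqRes M z) (hfix : ∀ x : G, Bad z x → fix M x = deg M z + 2) (hK : NoKlein M z)
include h hfix hK

/-- **Odd `n`.** -/
theorem false_of_odd {x : G} (hx : Bad z x) (hxp : x • base M = base M) (S : Sylow 2 M)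
    (hBS : h.blockK x ≤ SEqData.SG S) {n : ℕ} (hn : Nat.card (h.res.grp (base M)) = 2 ^ n) (hodd : Odd n) :
    False := by
  classical
  set V := h.diffV hfix hK hx hxp S hBS with hVdef
  letI : CommGroup V := { (inferInstance : Group V) with
    mul_comm := fun a b => Subtype.ext (h.comm_diffV hfix hK hx hxp S hBS a.2 b.2) }
  let A := Additive V
  have hsqV : ∀ a : V, ((a * a : V) : G) ∈ h.res.grp (base M) := fun a => h.sq_diffV hfix hK hx hxp S hBS a.2
  letI : Module (ZMod 4) A := AddCommGroup.zmodModule fun a => by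
    show Additive.ofMul (Additive.toMul a ^ 4) = 0
    refine congrArg Additive.ofMul (Subtype.ext ?_)
    show ((Additive.toMul a : V) : G) ^ 4 = 1
    rw [show (4 : ℕ) = 2 * 2 from rfl, pow_mul, pow_two, pow_two]
    exact h.res.grp_sq (hsqV (Additive.toMul a))
  let E : AddSubgroup A :=
    Subgroup.toAddSubgroup ((h.res.grp (base M)).subgroupOf V)
  have hmemE : ∀ a : A, a ∈ E ↔ ((Additive.toMul a : V) : G) ∈ h.res.grp (base M) := fun a => Iff.rfl
  obtain ⟨ev⟩ := exists_equiv_zmod_four E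
    (by
      rw [← hn, ← Nat.card_congr (Subgroup.subgroupOfEquivOfLe (h.grp_le_diffV hfix hK hx hxp S hBS)).toEquiv]
      rfl)
    (by
      show Nat.card V = _
      rw [h.card_diffV hfix hK hx hxp S hBS, hn, show (4 : ℕ) = 2 ^ 2 from rfl, ← pow_mul, ← pow_mul, mul_comm])
    (fun e he => congrArg Additive.ofMul (Subtype.ext (h.res.grp_sq ((hmemE e).1 he))))
    (fun a => hsqV (Additive.toMul a))
    (fun a ha => h.mem_grp_of_sq hfix hK hx hxp S hBS (Additive.toMul a).2
      (congrArg (fun b : A => ((Additive.toMul b : V) : G)) ha))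
    (fun e he => by
      obtain ⟨v, hv, hve⟩ := h.exists_sq_diffV hfix hK hx hxp S hBS ((hmemE e).1 he)
      exact ⟨Additive.ofMul ⟨v, hv⟩, congrArg Additive.ofMul (Subtype.ext hve)⟩)
  let bA : Module.Basis (Fin n) (ZMod 4) A := Module.Basis.ofEquivFun ev.symm
  haveI : Fact (1 < 4) := ⟨by decide⟩
  haveI : Module.Free (ZMod 4) A := Module.Free.of_basis bA
  have hfr : Module.finrank (ZMod 4) A = n := by
    rw [Module.finrank_eq_card_basis bA, Fintype.card_fin]
  -- conjugation
  have hSV : ∀ g : SEqData.SG S, ∀ v : V, (g : G) * (v : G) * (g : G)⁻¹ ∈ V := fun g v =>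
    (h.conj_diffV hfix hK hx hxp S hBS (h.normalize_blockK hfix hK hx hxp S hBS g.2)).1 v.2
  let conjA : SEqData.SG S → (A →+ A) := fun g =>
    { toFun := fun a => Additive.ofMul ⟨(g : G) * ((Additive.toMul a : V) : G) * (g : G)⁻¹, hSV g _⟩
      map_zero' := congrArg Additive.ofMul (Subtype.ext
        (show (g : G) * ((1 : V) : G) * (g : G)⁻¹ = 1 by simp))
      map_add' := fun a b => congrArg Additive.ofMul (Subtype.ext
        (show (g : G) * (((Additive.toMul a * Additive.toMul b : V)) : G) * (g : G)⁻¹ =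
            ((g : G) * ((Additive.toMul a : V) : G) * (g : G)⁻¹) * ((g : G) * ((Additive.toMul b : V) : G) * (g : G)⁻¹)
          by rw [Subgroup.coe_mul]; group)) }
  let χ : SEqData.SG S →* ZMod 4 :=
    { toFun := fun g => LinearMap.det ((conjA g).toZModLinearMap 4)
      map_one' := by
        rw [show (conjA 1).toZModLinearMap 4 = LinearMap.id from LinearMap.ext fun a =>
          congrArg Additive.ofMul (Subtype.ext
            (show ((1 : SEqData.SG S) : G) * ((Additive.toMul a : V) : G) * ((1 : SEqData.SG S) : G)⁻¹ =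
              ((Additive.toMul a : V) : G) by simp))]
        exact LinearMap.det_id
      map_mul' := fun g k => by
        rw [← map_mul, Module.End.mul_eq_comp]
        refine congrArg _ (LinearMap.ext fun a => congrArg Additive.ofMul (Subtype.ext ?_))
        show ((g * k : SEqData.SG S) : G) * ((Additive.toMul a : V) : G) * ((g * k : SEqData.SG S) : G)⁻¹ =
          (g : G) * ((k : G) * ((Additive.toMul a : V) : G) * (k : G)⁻¹) * (g : G)⁻¹
        rw [Subgroup.coe_mul]; group }
  have hbad : ∀ y : SEqData.SG S, Bad z (y : G) → χ y = 3 := by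
    intro y hy
    have hyB := (h.bad_in_blockK hfix hK hx hxp S hBS).1 _ y.2 hy
    have hxB := h.centA_le_blockK hfix hx hxp (h.self_mem_centA hx hxp)
    have hw : x * (y : G) ∈ V := ⟨mul_mem hxB hyB, by
      rw [← mul_assoc, invol_mul_self hx.invol, one_mul]; exact hy⟩
    have heq : (conjA y).toZModLinearMap 4 = (3 : ZMod 4) • LinearMap.id := by
      refine LinearMap.ext fun a => ?_
      set v : V := Additive.toMul a
      have h1 : (y : G) * (v : G) * (y : G)⁻¹ = (v : G)⁻¹ := by
        calc (y : G) * (v : G) * (y : G)⁻¹ = x * ((x * y) * v * (x * y)⁻¹) * x⁻¹ := by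
              rw [invol_inv hx.invol]
              calc (y : G) * (v : G) * (y : G)⁻¹ = (x * x) * (y : G) * (v : G) * (y : G)⁻¹ * (x * x) := by
                    rw [invol_mul_self hx.invol, one_mul, mul_one]
                _ = _ := by rw [mul_inv_rev, invol_inv hx.invol]; group
          _ = x * v * x⁻¹ := by rw [h.comm_diffV hfix hK hx hxp S hBS hw v.2, mul_inv_cancel_right]
          _ = _ := h.inv_diffV hfix hK hx hxp S hBS v.2
      have h2 : (3 : ZMod 4) • a = -a := by
        rw [show (3 : ZMod 4) = -1 from rfl, neg_smul, one_smul]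
      show _ = (3 : ZMod 4) • a
      rw [h2]
      exact congrArg Additive.ofMul (Subtype.ext h1)
    show LinearMap.det ((conjA y).toZModLinearMap 4) = 3
    rw [heq, LinearMap.det_smul, LinearMap.det_id, mul_one, hfr]
    obtain ⟨k, rfl⟩ := hodd
    rw [pow_succ, pow_mul, show (3 : ZMod 4) ^ 2 = 1 from rfl, one_pow, one_mul]
  have hxS : x ∈ SEqData.SG S := hBS (h.centA_le_blockK hfix hx hxp (h.self_mem_centA hx hxp))
  obtain ⟨hxM, hxS'⟩ := (SEqData.mem_SG S).1 hxS
  set U : Subgroup G := χ.ker.map (SEqData.SG S).subtype with hU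
  have hmemU : ∀ {g : G}, g ∈ U ↔ ∃ hg : g ∈ SEqData.SG S, χ ⟨g, hg⟩ = 1 := by
    intro g
    constructor
    · rintro ⟨⟨k, hk⟩, hker, rfl⟩
      exact ⟨hk, hker⟩
    · rintro ⟨hg, h1⟩
      exact ⟨⟨g, hg⟩, h1, rfl⟩
  -- two members
  obtain ⟨d, hd, hdp, -⟩ := h.res.crit.exists_commuting_invol hx.invol hxp
  obtain ⟨e, he, hep, hne⟩ : ∃ e, IsConj z e ∧ e • base M = base M ∧ e ≠ d := by
    by_contra hh
    push Not at hh
    haveI : Subsingleton (DAt z (base M)) := ⟨fun a b => Subtype.ext
      ((hh a.1 a.2.1 a.2.2).trans (hh b.1 b.2.1 b.2.2).symm)⟩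
    have h3 : Nat.card (DAt z (base M)) ≤ 1 := Finite.card_le_one_iff_subsingleton.2 inferInstance
    have h2 := h.two_le
    rw [card_DAt] at h3
    omega
  have hde : IsConj z (d * e) := h.res.mul d e hd he (h.res.comm d e _ hd he hdp hep) hne.symm
  have hunit : ∀ a b : ZMod 4, a * b = 1 → a = 1 ∨ a = 3 := by decide
  refine h.res.crit.not_mem_of_relIndex hx.invol hd he (smul_base_iff.1 hdp) (smul_base_iff.1 hep) hde S
    (U.subgroupOf M) (fun u hu => ?_) ?_ (fun u hu hc => ?_) (h.res.gen ▸ Subgroup.mem_top x)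
  · obtain ⟨hg, -⟩ := hmemU.1 (Subgroup.mem_subgroupOf.1 hu)
    exact ((SEqData.mem_SG S).1 hg).2
  · show ((U.subgroupOf M).subgroupOf (S : Subgroup M)).index = 2
    rw [Subgroup.index_eq_two_iff']
    refine ⟨⟨⟨x, hxM⟩, hxS'⟩, fun b => ?_⟩
    simp only [Subgroup.mem_subgroupOf]
    show Xor (x * (b.1 : G) ∈ U) ((b.1 : G) ∈ U)
    have hbS : (b.1 : G) ∈ SEqData.SG S := (SEqData.mem_SG S).2 ⟨b.1.2, b.2⟩
    have hx3 : χ ⟨x, hxS⟩ = 3 := hbad ⟨x, hxS⟩ hx
    have hmul : χ ⟨x * (b.1 : G), mul_mem hxS hbS⟩ = 3 * χ ⟨(b.1 : G), hbS⟩ := by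
      rw [← hx3, ← map_mul]; rfl
    rw [xor_iff_iff_not]
    refine ⟨fun h1 h2 => ?_, fun h2 => ?_⟩
    · obtain ⟨_, h1'⟩ := hmemU.1 h1
      obtain ⟨_, h2'⟩ := hmemU.1 h2
      rw [hmul, h2', mul_one] at h1'
      exact absurd h1' (by decide)
    · refine hmemU.2 ⟨mul_mem hxS hbS, ?_⟩
      rcases hunit _ _ (by rw [← map_mul, mul_inv_cancel, map_one] :
          χ ⟨(b.1 : G), hbS⟩ * χ (⟨(b.1 : G), hbS⟩⁻¹) = 1) with h1 | h1
      · exact absurd (hmemU.2 ⟨hbS, h1⟩) h2
      · rw [hmul, h1]; decide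
  · obtain ⟨hg, h1⟩ := hmemU.1 (Subgroup.mem_subgroupOf.1 hu)
    obtain ⟨k, hk⟩ := isConj_iff.1 hc
    rw [hbad ⟨_, hg⟩ (hk ▸ hx.conj k)] at h1
    exact absurd h1 (by decide)

end EqRes

end CfsgLib.SECrit.Eq
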