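import Cfsg.Agent.Lib.Invol.SECriterion.EqType.Equal.KerSylow
import Cfsg.Agent.Lib.Invol.SECriterion.EqType.Pencil.Main

/-!
# The strong embedding criterion, equal type with `s = q = 2 ^ n`: fusion outside `C_M(x)` forces odd `n`

Otherwise the classes of the bad involutions of `M` under the kernel of the action on `E` form a pencil of
`q` points for the image of `M`, with the torus fixing one and transitive on the others.
-/

set_option autoImplicit false
set_option linter.style.haveILetI false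

namespace CfsgLib.SECrit.Eq

open CfsgLib.Invol Small

universe u

variable {G : Type u} [Group G] [Finite G] {M : Subgroup G} {z : G}

namespace EqRes

variable (h : EqRes M z)
include h

/-- Bad involutions at the base point are conjugate under its stabilizer. -/
theorem exists_conj_base (hfix : ∀ x : G, Bad z x → fix M x = deg M z + 2) (hK : NoKlein M z) {x y : G}
    (hx : Bad z x) (hy : Bad z y) (hxp : x • base M = base M) (hyp : y • base M = base M) :
    ∃ k : M, (k : G) * x * (k : G)⁻¹ = y := by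
  obtain ⟨g, rfl⟩ := isConj_iff.1 (h.isConj_bad hfix hK hx hy)
  have hxb : x • (g⁻¹ • base M) = g⁻¹ • base M := by
    have := congrArg (g⁻¹ • ·) hyp
    simpa [smul_smul, mul_assoc] using this
  by_cases hb : g⁻¹ • base M = base M
  · exact ⟨⟨g, smul_base_iff.1 (inv_smul_eq_iff.1 hb).symm⟩, rfl⟩
  obtain ⟨c, -, hc, hxc⟩ := h.res.crit.exists_commuting_swap (Crit.isPGroup_zpowers_invol hx.invol)
    (Ne.symm hb) (Crit.forall_zpowers_fix hxp) (Crit.forall_zpowers_fix hxb)
  refine ⟨⟨g * c, smul_base_iff.1 (by rw [mul_smul, hc, smul_inv_smul])⟩, ?_⟩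
  show g * c * x * (g * c)⁻¹ = g * x * g⁻¹
  rw [show g * c * x * (g * c)⁻¹ = g * (c * x * c⁻¹) * g⁻¹ by group,
    ← (hxc x (Subgroup.mem_zpowers x)).eq, mul_inv_cancel_right]

/-- **Even `n`: all fusion is in `C_M(x)` up to the kernel.** -/
theorem centImage_eq_top (hfix : ∀ x : G, Bad z x → fix M x = deg M z + 2) (hS : Setup M z)
    (hloc : ∀ x : G, IsBad M x → Local M z x) {x : G} (hx : Bad z x) (hxp : x • base M = base M) {n : ℕ}
    (hn : Nat.card (h.res.grp (base M)) = 2 ^ n) (hev : Even n) : h.centImage x = ⊤ := by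
  classical
  haveI : Fact (Nat.Prime 2) := ⟨Nat.prime_two⟩
  by_contra hne
  have hK := h.noKlein hfix hS hloc
  obtain ⟨C, hC, hCcyc, hCle, hCn⟩ := h.exists_torus_group hfix hS hloc hx hxp
  obtain ⟨S, hBS, hKer, hFr⟩ := h.exists_kerSylow hfix hK hx hxp
  set E := h.res.grp (base M) with hE
  set B := h.blockK x with hB
  have hxx := invol_mul_self hx.invol
  have hxB : x ∈ B := h.centA_le_blockK hfix hx hxp (h.self_mem_centA hx hxp)
  let x₀ : h.conjE.range ⧸ h.centImage x := QuotientGroup.mk 1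
  have hx₀ : ∀ g : h.conjE.range, g • x₀ = QuotientGroup.mk g := fun g => by
    show QuotientGroup.mk (g * 1) = _
    rw [mul_one]
  have hfix₀ : ∀ g : h.conjE.range, g • x₀ = x₀ ↔ g ∈ h.centImage x := fun g => by
    rw [hx₀, QuotientGroup.eq, mul_one, inv_mem_iff]
  let cl : M → h.conjE.range ⧸ h.centImage x := fun k => QuotientGroup.mk (h.conjE.rangeRestrict k)
  have hclker : ∀ v k : M, h.conjE v = 1 → cl (v * k) = cl k := fun v k hv => by
    show QuotientGroup.mk (h.conjE.rangeRestrict (v * k)) = _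
    rw [map_mul, show h.conjE.rangeRestrict v = 1 from Subtype.ext hv, one_mul]
  have hclx : ∀ k k' : M, (k : G) * x * (k : G)⁻¹ = (k' : G) * x * (k' : G)⁻¹ → cl k = cl k' := by
    intro k k' hh
    refine QuotientGroup.eq.2 (h.mem_centImage.2 ⟨k⁻¹ * k', mul_inv_eq_iff_eq_mul.1 ?_, by rw [map_mul, map_inv]⟩)
    show (k : G)⁻¹ * k' * x * ((k : G)⁻¹ * k')⁻¹ = x
    rw [show (k : G)⁻¹ * k' * x * ((k : G)⁻¹ * k')⁻¹ = (k : G)⁻¹ * ((k' : G) * x * (k' : G)⁻¹) * k by group, ← hh]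
    group
  -- the class of a translation
  have hex : ∀ e : E, ∃ k : M, (k : G) * x * (k : G)⁻¹ ∈ B ∧
      (k : G) * x * (k : G)⁻¹ * x * ((k : G) * x * (k : G)⁻¹)⁻¹ = e * x := fun e => by
    obtain ⟨y, hy, hyb, hye⟩ := h.exists_bad_translation hfix hK hx hxp S hBS e.2
    obtain ⟨k, hk⟩ := h.exists_conj_base hfix hK hx hyb hxp hy.1
    exact ⟨k, hk.symm ▸ hy, hk.symm ▸ hye⟩
  choose kf hkB hkx using hex
  let f : E → h.conjE.range ⧸ h.centImage x := fun e => cl (kf e)
  have hf : ∀ (e : E) (k : M), (k : G) * x * (k : G)⁻¹ ∈ B →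
      (k : G) * x * (k : G)⁻¹ * x * ((k : G) * x * (k : G)⁻¹)⁻¹ = e * x → f e = cl k := by
    intro e k hyB hye
    set y := (k : G) * x * (k : G)⁻¹ with hy
    set y' := (kf e : G) * x * (kf e : G)⁻¹ with hy'
    have hyb : Bad z y := hx.conj _
    have hy'b : Bad z y' := hx.conj _
    have hA : y⁻¹ * y' ∈ h.centA x := h.mem_centA_of_blockK (mul_mem (inv_mem hyB) (hkB e)) (by
      rw [show y⁻¹ * y' * x * (y⁻¹ * y')⁻¹ = y⁻¹ * (y' * x * y'⁻¹) * y by group, hkx e, ← hye]
      group)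
    obtain ⟨d, hd, hh | hh⟩ := h.centA_cases hfix hK hx hxp hA
    · obtain ⟨v, hv, hvd⟩ := h.exists_sq_diffV hfix hK hx hxp S hBS hd
      have hw : x * y ∈ h.diffV hfix hK hx hxp S hBS :=
        ⟨mul_mem hxB hyB, by rw [← mul_assoc, hxx, one_mul]; exact hyb⟩
      have hinv : y⁻¹ * v * y = v⁻¹ := by
        have h1 : y = x * (x * y) := by rw [← mul_assoc, hxx, one_mul]
        have h2 := h.inv_diffV hfix hK hx hxp S hBS hv
        rw [h1, show (x * (x * y))⁻¹ * v * (x * (x * y)) = (x * y)⁻¹ * (x⁻¹ * v * x) * (x * y) by group,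
          show x⁻¹ * v * x = v⁻¹ by rw [← h2, invol_inv hx.invol]]
        rw [mul_assoc, h.comm_diffV hfix hK hx hxp S hBS (inv_mem hv) hw, inv_mul_cancel_left]
      have hvy : v * y * v⁻¹ = y' := by
        rw [show v * y * v⁻¹ = y * (y⁻¹ * v * y) * v⁻¹ by group, hinv, mul_assoc, ← mul_inv_rev, hvd,
          inv_eq_of_mul_eq_one_left (h.res.grp_sq hd), ← hh, mul_inv_cancel_left]
      have hvM : v ∈ M := smul_base_iff.1 hv.1.1
      rw [← hclker ⟨v, hvM⟩ k (h.conjE_eq_one_iff.2 fun a ha => hv.1.2.1 a ha)]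
      refine hclx _ _ ?_
      show y' = v * (k : G) * x * (v * (k : G))⁻¹
      rw [← hvy, hy]
      group
    · exfalso
      refine (h.bad_or_diff hfix hK hx hxp S hBS (hkB e)).1 hy'b ?_
      have h1 := (h.bad_translate' hyb hyB.1 hd).conj x
      rw [show x * y' = x * (d * y) * x⁻¹ by
        rw [invol_inv hx.invol, show y' = y * (d * x) by rw [← hh, mul_inv_cancel_left],
          ← (h.commute_grp hyb hyB.1 hd).eq]
        group]
      exact h1
  have hsurj : Function.Surjective f := by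
    intro a
    obtain ⟨⟨l, m, rfl⟩, rfl⟩ := QuotientGroup.mk_surjective a
    have hbad : Bad z ((m : G) * x * (m : G)⁻¹) := hx.conj _
    have hxM : x ∈ M := smul_base_iff.1 hxp
    set t : M := m * ⟨x, hxM⟩ * m⁻¹ with ht
    have hto : orderOf t = 2 := by rw [← Subgroup.orderOf_coe]; exact hbad.invol
    have htK : t ∈ h.conjE.ker := h.conjE_eq_one_iff.2 fun e he =>
      h.commute_grp hbad (smul_base_iff.2 t.2) he
    obtain ⟨k, hk, hkt⟩ := hKer (Subgroup.zpowers t) (Crit.isPGroup_zpowers_invol hto) (Subgroup.zpowers_le.2 htK)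
    have hk' : ((k * m : M) : G) * x * ((k * m : M) : G)⁻¹ = ((k * t * k⁻¹ : M) : G) := by
      show (k : G) * (m : G) * x * ((k : G) * (m : G))⁻¹ = (k : G) * ((m : G) * x * (m : G)⁻¹) * (k : G)⁻¹
      group
    have hyS : ((k * t * k⁻¹ : M) : G) ∈ SEqData.SG S :=
      (SEqData.mem_SG S).2 ⟨(k * t * k⁻¹).2, (hkt t (Subgroup.mem_zpowers t)).1⟩
    have hyB : ((k * m : M) : G) * x * ((k * m : M) : G)⁻¹ ∈ B :=
      (h.bad_in_blockK hfix hK hx hxp S hBS).1 _ (hk'.symm ▸ hyS) (hx.conj _)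
    obtain ⟨e, he, hex⟩ := hyB.2.2
    exact ⟨⟨e, he⟩, (hf ⟨e, he⟩ _ hyB hex).trans (hclker k m hk)⟩
  have hequi : ∀ c ∈ C, ∀ e : E, f (c • e) = c • f e := by
    intro c hc e
    obtain ⟨m, hmx, rfl⟩ := h.mem_centImage.1 (hCle hc)
    have hmp : (m : G) • base M = base M := smul_base_iff.2 m.2
    set y := (kf e : G) * x * (kf e : G)⁻¹ with hy
    have hmy : ((m * kf e : M) : G) * x * ((m * kf e : M) : G)⁻¹ = (m : G) * y * (m : G)⁻¹ := by
      show (m : G) * (kf e : G) * x * ((m : G) * (kf e : G))⁻¹ = _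
      rw [hy]; group
    rw [hf _ (m * kf e) (hmy.symm ▸ h.conj_blockK hx hxp hmp hmx (hkB e)) ?_]
    · show QuotientGroup.mk (h.conjE.rangeRestrict (m * kf e)) = _
      rw [map_mul]
      rfl
    · rw [hmy]
      show (m : G) * y * (m : G)⁻¹ * x * ((m : G) * y * (m : G)⁻¹)⁻¹ = (m : G) * e * (m : G)⁻¹ * x
      have hx' : (m : G)⁻¹ * x * m = x := by rw [mul_assoc, ← hmx.eq, inv_mul_cancel_left]
      calc (m : G) * y * (m : G)⁻¹ * x * ((m : G) * y * (m : G)⁻¹)⁻¹
          = (m : G) * (y * ((m : G)⁻¹ * x * m) * y⁻¹) * (m : G)⁻¹ := by group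
        _ = (m : G) * (e * x) * (m : G)⁻¹ := by rw [hx', hkx e]
        _ = (m : G) * e * (m : G)⁻¹ * ((m : G) * x * (m : G)⁻¹) := by group
        _ = _ := by rw [hmx.eq, mul_inv_cancel_right]
  have hf1 : f 1 = x₀ := by
    rw [hf 1 1 (by simpa using hxB) (by simp [mul_assoc])]
    show QuotientGroup.mk (h.conjE.rangeRestrict 1) = _
    rw [map_one]
  have hf₀ : ∀ e : E, f e = x₀ → e = 1 := by
    intro e he
    by_contra he1
    refine hne ((Subgroup.eq_top_iff' _).2 fun l => ?_)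
    obtain ⟨e', he'⟩ := hsurj (QuotientGroup.mk l)
    rw [← hfix₀, hx₀, ← he']
    by_cases h1 : e' = 1
    · rw [h1, hf1]
    obtain ⟨c, hc, rfl⟩ := hC.trans e e' he1 h1
    rw [hequi c hc, he]
    exact (hfix₀ c).2 (hCle hc)
  have hinj : Function.Injective f := by
    intro e e' hee
    obtain ⟨w, hwk, hw⟩ := hFr (kf e)
    have hwe : ∀ e₁ : E, f e₁ = f e →
        ∃ d ∈ E, (w : G)⁻¹ * ((kf e₁ : G) * x * (kf e₁ : G)⁻¹) * w = d * x := by
      intro e₁ he₁
      set y := (kf e₁ : G) * x * (kf e₁ : G)⁻¹ with hy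
      have hyb : Bad z y := hx.conj _
      have hyP : (⟨y, smul_base_iff.1 (hkB e₁).1⟩ : M) ∈ h.kerPart S :=
        ⟨((SEqData.mem_SG S).1 (hBS (hkB e₁))).2, h.conjE_eq_one_iff.2 fun a ha => (hkB e₁).2.1 a ha⟩
      set t : M := w⁻¹ * ⟨y, smul_base_iff.1 (hkB e₁).1⟩ * w with ht
      have htP : t ∈ h.kerPart S := (hw t).2 (by rw [ht]; convert hyP using 1; group)
      have hty : ((w⁻¹ * kf e₁ : M) : G) * x * ((w⁻¹ * kf e₁ : M) : G)⁻¹ = (t : G) := by
        show (w : G)⁻¹ * (kf e₁ : G) * x * ((w : G)⁻¹ * (kf e₁ : G))⁻¹ = (w : G)⁻¹ * y * w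
        rw [hy]; group
      have htb : Bad z ((w : G)⁻¹ * y * w) := by
        have := hyb.conj (w : G)⁻¹
        rwa [inv_inv] at this
      have htB : (w : G)⁻¹ * y * w ∈ B := (h.bad_in_blockK hfix hK hx hxp S hBS).1 _
        ((SEqData.mem_SG S).2 ⟨t.2, htP.1⟩) htb
      obtain ⟨d, hd, hdx⟩ := htB.2.2
      have hd1 : (⟨d, hd⟩ : E) = 1 := by
        refine hf₀ _ ?_
        rw [hf ⟨d, hd⟩ (w⁻¹ * kf e₁) (hty.symm ▸ htB) (hty.symm ▸ hdx)]
        show QuotientGroup.mk (h.conjE.rangeRestrict (w⁻¹ * kf e₁)) = _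
        rw [map_mul, map_inv, ← hx₀, mul_smul, hx₀, show QuotientGroup.mk (h.conjE.rangeRestrict (kf e₁)) = f e from he₁]
        show ((h.conjE.rangeRestrict w)⁻¹ * h.conjE.rangeRestrict (kf e) : h.conjE.range ⧸ h.centImage x) = _
        rw [← map_inv, ← map_mul, show h.conjE.rangeRestrict (w⁻¹ * kf e) = 1 from Subtype.ext hwk]
      have hd' : d = 1 := congrArg Subtype.val hd1
      rw [hd', one_mul] at hdx
      obtain ⟨a, ha, h1 | h1⟩ := h.centA_cases hfix hK hx hxp (h.mem_centA_of_blockK htB hdx)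
      · exact absurd (h1 ▸ ha) (h.not_mem_grp_of_bad htb)
      · exact ⟨a, ha, h1⟩
    obtain ⟨d, hd, hde⟩ := hwe e rfl
    obtain ⟨d', hd', hde'⟩ := hwe e' hee.symm
    set y := (kf e : G) * x * (kf e : G)⁻¹ with hy
    set y' := (kf e' : G) * x * (kf e' : G)⁻¹ with hy'
    set a := (w : G) * (d' * d⁻¹) * (w : G)⁻¹ with ha
    have haE : a ∈ E := h.res.grp_conj (smul_base_iff.2 w.2) (mul_mem hd' (inv_mem hd))
    have hay : y' = a * y := by
      calc y' = (w : G) * ((w : G)⁻¹ * y' * w) * (w : G)⁻¹ := by group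
        _ = (w : G) * (d' * x) * (w : G)⁻¹ := by rw [hde']
        _ = a * ((w : G) * (d * x) * (w : G)⁻¹) := by rw [ha]; group
        _ = a * y := by rw [← hde]; group
    refine Subtype.ext (mul_right_cancel (b := x) ?_)
    rw [← hkx e, ← hkx e', ← hy, ← hy', hay, show a * y * x * (a * y)⁻¹ = a * (y * x * y⁻¹) * a⁻¹ by group,
      hkx e, ((h.res.grp_commute haE e.2).mul_right (h.commute_grp hx hxp haE).symm).eq, mul_inv_cancel_right]
  have hcard : Nat.card (h.conjE.range ⧸ h.centImage x) = 2 ^ n := by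
    rw [← hn]
    exact (Nat.card_eq_of_bijective f ⟨hinj, hsurj⟩).symm
  have h2n : 2 ≤ n := by
    by_contra hlt
    have h3 := h.two_le
    have h4 := h.res.card_grp (base M)
    rw [hn] at h4
    have : 2 ^ n ≤ 2 ^ 1 := Nat.pow_le_pow_right (by norm_num) (by omega)
    omega
  have hset : Pencil.Setting h.conjE.range E (h.conjE.range ⧸ h.centImage x) C x₀ n :=
    { singer := hC
      cyclic := hCcyc
      card_E := hn
      card_X := hcard
      two_le := h2n
      trans_X := fun a => by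
        obtain ⟨l, rfl⟩ := QuotientGroup.mk_surjective a
        exact ⟨l, hx₀ l⟩
      fix := fun c hc => (hfix₀ c).2 (hCle hc)
      norm := fun g hg c hc => hCn g ((hfix₀ g).1 hg) c hc
      trans_off := fun a b ha hb => by
        obtain ⟨e, rfl⟩ := hsurj a
        obtain ⟨e', rfl⟩ := hsurj b
        obtain ⟨c, hc, rfl⟩ := hC.trans e e' (fun e1 => ha (e1 ▸ hf1)) (fun e1 => hb (e1 ▸ hf1))
        exact ⟨c, hc, (hequi c hc e).symm⟩ }
  exact Nat.not_odd_iff_even.2 hev hset.odd_dim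

end EqRes

end CfsgLib.SECrit.Eq
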