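import Cfsg.Agent.Lib.Invol.SECriterion.Assembly
import Cfsg.Agent.Lib.Invol.SECriterion.EqType.Equal.Fused
import Cfsg.Agent.Lib.Invol.SECriterion.EqType.Equal.Unfused
import Cfsg.Agent.Lib.Invol.SECriterion.EqType.Equal.Odd

/-!
# The strong embedding criterion: the equal type with `q + 1` fixed points does not occur
-/

set_option autoImplicit false

namespace CfsgLib.SECrit

open CfsgLib.Invol Small Eq

universe u

variable {G : Type u} [Group G] [Finite G] {M : Subgroup G} {z : G}

/-- **The equal type with `q + 1` fixed points does not occur.** -/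
theorem Setup.noEqLinear (h : Setup M z) : NoEqLinear M z := by
  intro hloc hE hfix x₀ hx₀
  obtain ⟨p, hp⟩ := Small.exists_fix h.crit hx₀.invol
  obtain ⟨g, rfl⟩ := MulAction.exists_smul_eq G (base M) p
  have hx : Small.Bad z (g⁻¹ * x₀ * g) := by
    have := hx₀.conj g⁻¹
    rwa [inv_inv] at this
  have hxp : (g⁻¹ * x₀ * g) • base M = base M := by
    rw [mul_smul, mul_smul, hp, inv_smul_smul]
  obtain ⟨n, hn⟩ := IsPGroup.iff_card.1 (hE.res.isPGroup_grp (base M))
  rcases Nat.even_or_odd n with hev | hodd
  · exact hE.false_of_centImage_top hfix h hloc hx hxp (hE.centImage_eq_top hfix h hloc hx hxp hn hev)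
  · have hK := hE.noKlein hfix h hloc
    obtain ⟨S, hS⟩ := hE.exists_sylow_blockK hfix hK hx hxp
    exact hE.false_of_odd hfix hK hx hxp S hS hn hodd

end CfsgLib.SECrit
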