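import Cfsg.Agent.Lib.Invol.SECriterion.EqType.Equal.Mover

/-!
# The strong embedding criterion, equal type with `s = q`: the block of a bad involution

`B = {g ∈ M ∩ C(E) : g x g⁻¹ ∈ E x}` has order `2 q ^ 2`.  A Sylow subgroup `S` of `M` containing it has
its `q ^ 2` bad involutions in `B`, and they fix every point besides the base point exactly once.  The
other half `V` of `B` is abelian, inverted by `x`, and squaring maps it onto `E` with kernel `E`.
-/

set_option autoImplicit false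
set_option linter.style.haveILetI false

namespace CfsgLib.SECrit.Eq

open CfsgLib.Invol Small

variable {G : Type*} [Group G] [Finite G] {M : Subgroup G} {z : G}

namespace EqRes

variable (h : EqRes M z) (hfix : ∀ x : G, Bad z x → fix M x = deg M z + 2) (hK : NoKlein M z)
variable {x : G} (hx : Bad z x) (hxp : x • base M = base M)
include h hfix hK hx hxp

theorem centA_cases {g : G} (hg : g ∈ h.centA x) : ∃ e ∈ h.res.grp (base M), g = e ∨ g = e * x :=
  h.mem_grp_or_mul hfix hK hx hxp hg.1 hg.2.1 hg.2.2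

theorem card_centA : Nat.card (h.centA x) = 2 * Nat.card (h.res.grp (base M)) := by
  classical
  set E := h.res.grp (base M)
  have hxE : x ∉ E := h.not_mem_grp_of_bad hx
  rw [show 2 * Nat.card E = Nat.card (Bool × E) by
    rw [Nat.card_prod, Nat.card_eq_fintype_card (α := Bool), Fintype.card_bool]]
  refine (Nat.card_eq_of_bijective (fun p : Bool × E => (⟨if p.1 then (p.2 : G) * x else p.2, ?_⟩ : h.centA x))
    ⟨?_, ?_⟩).symm
  · rcases p with ⟨b, e⟩
    cases b
    · exact h.grp_le_centA hx hxp e.2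
    · exact mul_mem (h.grp_le_centA hx hxp e.2) (h.self_mem_centA hx hxp)
  · rintro ⟨b, e⟩ ⟨b', e'⟩ hh
    simp only [Subtype.mk.injEq] at hh
    cases b <;> cases b' <;> simp only [Bool.false_eq_true, if_false, if_true] at hh
    · exact Prod.ext rfl (Subtype.ext hh)
    · refine absurd ?_ hxE
      rw [show x = (e' : G)⁻¹ * e by rw [hh, inv_mul_cancel_left]]
      exact mul_mem (inv_mem e'.2) e.2
    · refine absurd ?_ hxE
      rw [show x = (e : G)⁻¹ * e' by rw [← hh, inv_mul_cancel_left]]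
      exact mul_mem (inv_mem e.2) e'.2
    · exact Prod.ext rfl (Subtype.ext (mul_right_cancel hh))
  · rintro ⟨g, hg⟩
    obtain ⟨e, he, rfl | rfl⟩ := h.centA_cases hfix hK hx hxp hg
    · exact ⟨(false, ⟨g, he⟩), rfl⟩
    · exact ⟨(true, ⟨e, he⟩), rfl⟩

omit hK in
theorem centA_le_blockK : h.centA x ≤ h.blockK x := fun g hg =>
  ⟨hg.1, hg.2.2, 1, one_mem _, by rw [hg.2.1.eq, mul_inv_cancel_right, one_mul]⟩

omit hfix hK hx hxp in
theorem mem_centA_of_blockK {g : G} (hg : g ∈ h.blockK x) (hc : g * x * g⁻¹ = x) : g ∈ h.centA x :=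
  ⟨hg.1, mul_inv_eq_iff_eq_mul.1 hc, hg.2.1⟩

omit hfix hK in
theorem conj_blockK {c g : G} (hcp : c • base M = base M) (hcx : Commute c x) (hg : g ∈ h.blockK x) :
    c * g * c⁻¹ ∈ h.blockK x := by
  obtain ⟨hgp, hgE, e, he, hge⟩ := hg
  have hci : c⁻¹ • base M = base M := inv_smul_eq_iff.2 hcp.symm
  refine ⟨by rw [mul_smul, mul_smul, hci, hgp, hcp], fun d hd => ?_, c * e * c⁻¹, h.res.grp_conj hcp he, ?_⟩
  · simpa [mul_assoc] using Commute.map (hgE _ (h.res.grp_conj hci hd)) (MulAut.conj c).toMonoidHom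
  · have hci' : c⁻¹ * x * c = x := by rw [mul_assoc, ← hcx.eq, inv_mul_cancel_left]
    calc c * g * c⁻¹ * x * (c * g * c⁻¹)⁻¹ = c * (g * (c⁻¹ * x * c) * g⁻¹) * c⁻¹ := by group
      _ = c * (e * x) * c⁻¹ := by rw [hci', hge]
      _ = (c * e * c⁻¹) * (c * x * c⁻¹) := by group
      _ = _ := by rw [hcx.eq, mul_inv_cancel_right]

/-- Every translation occurs. -/
theorem exists_translation {f : G} (hf : f ∈ h.res.grp (base M)) :
    ∃ g ∈ h.blockK x, g * x * g⁻¹ = f * x := by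
  by_cases hf1 : f = 1
  · exact ⟨1, one_mem _, by rw [hf1]; group⟩
  obtain ⟨g, hgN, hgE, -, hgx⟩ := h.exists_cent_mover hfix hx hxp
  have hv : g * x * g⁻¹ ∈ h.centA x := (Subgroup.mem_normalizer_iff.1 hgN.1 x).1 (h.self_mem_centA hx hxp)
  obtain ⟨e, he, hh⟩ := h.centA_cases hfix hK hx hxp hv
  rcases hh with hh | hh
  · exact absurd (hh.symm ▸ he) (h.not_mem_grp_of_bad (hx.conj g))
  have he1 : e ≠ 1 := fun e1 => hgx (mul_inv_eq_iff_eq_mul.1 (by rw [hh, e1, one_mul]))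
  obtain ⟨a, hap, ha⟩ := h.res.bad_two_fix hx hxp
  obtain ⟨c, hcp, hce, hcu⟩ := h.exists_torus' hfix hx hxp ha hap he he1 hf hf1
  have hcx := hcu x hx hxp ha
  refine ⟨c * g * c⁻¹, h.conj_blockK hx hxp hcp hcx ⟨hgN.2, hgE, e, he, hh⟩, ?_⟩
  have hci' : c⁻¹ * x * c = x := by rw [mul_assoc, ← hcx.eq, inv_mul_cancel_left]
  calc c * g * c⁻¹ * x * (c * g * c⁻¹)⁻¹ = c * (g * (c⁻¹ * x * c) * g⁻¹) * c⁻¹ := by group
    _ = c * (e * x) * c⁻¹ := by rw [hci', hh]
    _ = (c * e * c⁻¹) * (c * x * c⁻¹) := by group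
    _ = _ := by rw [hce, hcx.eq, mul_inv_cancel_right]

/-- **The order of the block.** -/
theorem card_blockK : Nat.card (h.blockK x) = 2 * Nat.card (h.res.grp (base M)) ^ 2 := by
  classical
  set E := h.res.grp (base M)
  choose k hk hkx using fun f : E => h.exists_translation hfix hK hx hxp f.2
  rw [show 2 * Nat.card E ^ 2 = Nat.card (E × h.centA x) by
    rw [Nat.card_prod, h.card_centA hfix hK hx hxp]; ring]
  refine (Nat.card_eq_of_bijective (fun p : E × h.centA x =>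
    (⟨k p.1 * p.2.1, mul_mem (hk p.1) (h.centA_le_blockK hfix hx hxp p.2.2)⟩ : h.blockK x)) ⟨?_, ?_⟩).symm
  · rintro ⟨f, t⟩ ⟨f', t'⟩ hh
    have h1 : k f * t = k f' * t' := congrArg Subtype.val hh
    have hx' : ∀ (f : E) (t : h.centA x), k f * t * x * (k f * t)⁻¹ = (f : G) * x := fun f t => by
      rw [show k f * t * x * (k f * t)⁻¹ = k f * ((t : G) * x * (t : G)⁻¹) * (k f)⁻¹ by group, t.2.2.1.eq,
        mul_inv_cancel_right, hkx]
    obtain rfl : f = f' := Subtype.ext (mul_right_cancel ((hx' f t).symm.trans (h1 ▸ hx' f' t')))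
    exact Prod.ext rfl (Subtype.ext (mul_left_cancel h1))
  · rintro ⟨g, hg⟩
    obtain ⟨hgp, hgE, f, hf, hgf⟩ := id hg
    have hmem : (k ⟨f, hf⟩)⁻¹ * g ∈ h.blockK x := mul_mem (inv_mem (hk _)) hg
    refine ⟨(⟨f, hf⟩, ⟨_, h.mem_centA_of_blockK hmem ?_⟩), Subtype.ext (mul_inv_cancel_left _ _)⟩
    rw [show (k ⟨f, hf⟩)⁻¹ * g * x * ((k ⟨f, hf⟩)⁻¹ * g)⁻¹ =
      (k ⟨f, hf⟩)⁻¹ * (g * x * g⁻¹) * k ⟨f, hf⟩ by group, hgf, ← hkx ⟨f, hf⟩]
    group

theorem isPGroup_blockK : IsPGroup 2 (h.blockK x) := by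
  obtain ⟨n, hn⟩ := IsPGroup.iff_card.1 (h.res.isPGroup_grp (base M))
  exact IsPGroup.of_card (n := 2 * n + 1) (by rw [h.card_blockK hfix hK hx hxp, hn]; ring)

theorem exists_sylow_blockK : ∃ S : Sylow 2 M, h.blockK x ≤ SEqData.SG S := by
  have hBM : h.blockK x ≤ M := fun g hg => smul_base_iff.1 hg.1
  obtain ⟨S, hS⟩ := ((h.isPGroup_blockK hfix hK hx hxp).of_equiv
    (Subgroup.subgroupOfEquivOfLe hBM).symm).exists_le_sylow
  exact ⟨S, fun g hg => (SEqData.mem_SG S).2 ⟨hBM hg, hS (Subgroup.mem_subgroupOf.2 hg)⟩⟩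

variable (S : Sylow 2 M) (hBS : h.blockK x ≤ SEqData.SG S)
include hBS

omit hx hxp hBS in
/-- An element of `S` centralizing `E` and fixing another point is trivial or bad. -/
theorem fix_cases' {g : G} (hg : g ∈ SEqData.SG S) (hgE : ∀ e ∈ h.res.grp (base M), Commute g e) {b : G ⧸ M}
    (hb : b ≠ base M) (hgb : g • b = b) : g = 1 ∨ Bad z g := by
  haveI : Fact (Nat.Prime 2) := ⟨Nat.prime_two⟩
  by_cases hg1 : g = 1
  · exact Or.inl hg1
  obtain ⟨k, hk⟩ : ∃ k, orderOf g = 2 ^ k := by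
    obtain ⟨k, hk⟩ := SEqData.isPGroup_SG S ⟨g, hg⟩
    obtain ⟨i, -, hi⟩ := (Nat.dvd_prime_pow Nat.prime_two).1 (orderOf_dvd_of_pow_eq_one (congrArg Subtype.val hk :))
    exact ⟨i, hi⟩
  have heven : Even (orderOf g) := by
    rcases k with - | k
    · exact absurd (orderOf_eq_one_iff.1 (by rw [hk, pow_zero])) hg1
    · rw [hk]; exact Nat.even_pow.2 ⟨even_two, k.succ_ne_zero⟩
  set w := g ^ (orderOf g / 2)
  have hwS : w ∈ SEqData.SG S := pow_mem hg _
  have hwb : w • b = b := Crit.forall_zpowers_fix hgb w (Subgroup.pow_mem _ (Subgroup.mem_zpowers g) _)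
  have hwB : Bad z w :=
    ⟨orderOf_pow_half heven, fun hh => hb (h.res.crit.fix_unique hh hwb (SEqData.SG_fix S hwS))⟩
  rcases h.eq_one_or_self hfix hK hwB (SEqData.SG_fix S hwS) hwb hb (SEqData.SG_fix S hg) hgb
    ((Commute.refl g).pow_right _) hgE with h1 | h1
  · exact absurd h1 hg1
  · exact Or.inr (h1 ▸ hwB)

/-- A bad involution of the block outside `A`. -/
theorem exists_bad_blockK : ∃ y ∈ h.blockK x, Bad z y ∧ y ∉ h.centA x := by
  haveI : Fact (Nat.Prime 2) := ⟨Nat.prime_two⟩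
  set B := h.blockK x with hBdef
  obtain ⟨u, huS, hub, huA⟩ := h.exists_bad_outside hfix hx hxp S
    fun g hg => hBS (h.centA_le_blockK hfix hx hxp hg)
  by_cases huB : u ∈ B
  · exact ⟨u, huB, hub, huA⟩
  let P : Subgroup G := SEqData.SG S ⊓ Subgroup.centralizer (h.res.grp (base M) : Set G)
  have hBP : B ≤ P := fun g hg => ⟨hBS hg, Subgroup.mem_centralizer_iff.2 fun e he => (hg.2.1 e he).eq.symm⟩
  have huP : u ∈ P := ⟨huS, Subgroup.mem_centralizer_iff.2 fun e he =>
    (h.commute_grp hub (SEqData.SG_fix S huS) he).eq.symm⟩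
  haveI : Group.IsNilpotent P := ((SEqData.isPGroup_SG S).to_le inf_le_left).isNilpotent
  have hlt : B.subgroupOf P < ⊤ := lt_top_iff_ne_top.2 fun e1 =>
    huB (Subgroup.subgroupOf_eq_top.1 e1 huP)
  obtain ⟨g, hgN, hgB⟩ := SetLike.exists_of_lt (normalizerCondition_of_isNilpotent _ hlt)
  have hgB' : (g : G) ∉ B := fun hh => hgB (Subgroup.mem_subgroupOf.2 hh)
  have hxB : x ∈ B := h.centA_le_blockK hfix hx hxp (h.self_mem_centA hx hxp)
  have hyB : (g : G) * x * (g : G)⁻¹ ∈ B := Subgroup.mem_subgroupOf.1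
    ((Subgroup.mem_normalizer_iff.1 hgN ⟨x, hBP hxB⟩).1 (Subgroup.mem_subgroupOf.2 hxB))
  refine ⟨_, hyB, hx.conj g, fun hh => hgB' ?_⟩
  obtain ⟨e, he, h1 | h1⟩ := h.centA_cases hfix hK hx hxp hh
  · exact absurd (h1 ▸ he) (h.not_mem_grp_of_bad (hx.conj (g : G)))
  · exact ⟨SEqData.SG_fix S g.2.1, fun e he => (Subgroup.mem_centralizer_iff.1 g.2.2 e he).symm, e, he, h1⟩

/-- Every translation comes from a bad involution of the block. -/
theorem exists_bad_translation {f : G} (hf : f ∈ h.res.grp (base M)) :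
    ∃ y ∈ h.blockK x, Bad z y ∧ y * x * y⁻¹ = f * x := by
  by_cases hf1 : f = 1
  · exact ⟨x, h.centA_le_blockK hfix hx hxp (h.self_mem_centA hx hxp), hx,
      by rw [mul_inv_cancel_right, hf1, one_mul]⟩
  obtain ⟨y, hy, hyb, hyA⟩ := h.exists_bad_blockK hfix hK hx hxp S hBS
  obtain ⟨hyp, hyE, e, he, hye⟩ := id hy
  have he1 : e ≠ 1 := fun e1 => hyA (h.mem_centA_of_blockK hy (by rw [hye, e1, one_mul]))
  obtain ⟨a, hap, ha⟩ := h.res.bad_two_fix hx hxp
  obtain ⟨c, hcp, hce, hcu⟩ := h.exists_torus' hfix hx hxp ha hap he he1 hf hf1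
  have hcx := hcu x hx hxp ha
  refine ⟨c * y * c⁻¹, h.conj_blockK hx hxp hcp hcx hy, hyb.conj c, ?_⟩
  have hci' : c⁻¹ * x * c = x := by rw [mul_assoc, ← hcx.eq, inv_mul_cancel_left]
  calc c * y * c⁻¹ * x * (c * y * c⁻¹)⁻¹ = c * (y * (c⁻¹ * x * c) * y⁻¹) * c⁻¹ := by group
    _ = c * (e * x) * c⁻¹ := by rw [hci', hye]
    _ = (c * e * c⁻¹) * (c * x * c⁻¹) := by group
    _ = _ := by rw [hce, hcx.eq, mul_inv_cancel_right]

/-- **The bad involutions of `S`**: `q ^ 2` of them, all in the block, fixing every further point. -/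
theorem bad_in_blockK : (∀ y ∈ SEqData.SG S, Bad z y → y ∈ h.blockK x) ∧
    Nat.card {y : G // y ∈ h.blockK x ∧ Bad z y} = Nat.card (h.res.grp (base M)) ^ 2 ∧
    (∀ b : G ⧸ M, b ≠ base M → ∃ y ∈ SEqData.SG S, Bad z y ∧ y • b = b) ∧
    ∀ y y' : G, y ∈ SEqData.SG S → Bad z y → y' ∈ SEqData.SG S → Bad z y' → ∀ b : G ⧸ M, b ≠ base M →
      y • b = b → y' • b = b → y = y' := by
  classical
  set E := h.res.grp (base M)
  set B := h.blockK x with hBdef
  have hsep : ∀ y y' : G, y ∈ SEqData.SG S → Bad z y → y' ∈ SEqData.SG S → Bad z y' → ∀ b : G ⧸ M,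
      b ≠ base M → y • b = b → y' • b = b → y = y' := by
    intro y y' hyS hy hy'S hy' b hb hyb hy'b
    have hyp := SEqData.SG_fix S hyS
    have hy'p := SEqData.SG_fix S hy'S
    rcases h.fix_cases' hfix hK S (mul_mem hy'S hyS) (fun e he => (h.commute_grp hy' hy'p he).mul_left
      (h.commute_grp hy hyp he)) hb (by rw [mul_smul, hyb, hy'b]) with h1 | h1
    · exact (invol_inv hy.invol).symm.trans (inv_eq_of_mul_eq_one_left h1)
    · have hcm : Commute y' y := by
        have h3 := invol_mul_self h1.invol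
        calc y' * y = (y' * y)⁻¹ := (inv_eq_of_mul_eq_one_left h3).symm
          _ = y * y' := by rw [mul_inv_rev, invol_inv hy.invol, invol_inv hy'.invol]
      exact (hK y' y (base M) b hy' hy hcm (Ne.symm hb) hy'p hy'b hyp hyb).symm
  let Y := {y : G // y ∈ SEqData.SG S ∧ Bad z y}
  let YB := {y : G // y ∈ B ∧ Bad z y}
  -- a lower bound in the block
  choose w hwB hwb hwx using fun f : E => h.exists_bad_translation hfix hK hx hxp S hBS f.2
  let F : E × E → YB := fun p => ⟨(p.1 : G) * w p.2,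
    mul_mem (h.centA_le_blockK hfix hx hxp (h.grp_le_centA hx hxp p.1.2)) (hwB p.2),
    h.bad_translate' (hwb p.2) (hwB p.2).1 p.1.2⟩
  have hFx : ∀ p, (F p).1 * x * (F p).1⁻¹ = p.2 * x := fun p => by
    show (p.1 : G) * w p.2 * x * ((p.1 : G) * w p.2)⁻¹ = p.2 * x
    rw [show (p.1 : G) * w p.2 * x * ((p.1 : G) * w p.2)⁻¹ = p.1 * (w p.2 * x * (w p.2)⁻¹) * (p.1 : G)⁻¹ by group,
      hwx, ((h.res.grp_commute p.1.2 p.2.2).mul_right (h.commute_grp hx hxp p.1.2).symm).eq, mul_inv_cancel_right]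
  have hinj : Function.Injective F := by
    intro p p' hpp
    have h1 := hFx p
    rw [hpp, hFx p'] at h1
    have h2 : p.2 = p'.2 := Subtype.ext (mul_right_cancel h1).symm
    have h3 : (p.1 : G) * w p.2 = p'.1 * w p'.2 := congrArg Subtype.val hpp
    rw [h2] at h3
    exact Prod.ext (Subtype.ext (mul_right_cancel h3)) h2
  have hlo : Nat.card E ^ 2 ≤ Nat.card YB := by
    rw [pow_two, ← Nat.card_prod]
    exact Nat.card_le_card_of_injective F hinj
  have hincl : ∀ y : YB, y.1 ∈ SEqData.SG S := fun y => hBS y.2.1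
  have hle : Nat.card YB ≤ Nat.card Y :=
    Nat.card_le_card_of_injective (fun y => ⟨y.1, hincl y, y.2.2⟩) fun a b hab =>
      Subtype.ext (congrArg (fun t : Y => t.1) hab)
  -- an upper bound from the points
  let f : (Σ y : Y, {b : G ⧸ M // y.1 • b = b ∧ b ≠ base M}) → {b : G ⧸ M // b ≠ base M} :=
    fun s => ⟨s.2.1, s.2.2.2⟩
  have hf : Function.Injective f := by
    rintro ⟨y, b, hy, hb⟩ ⟨y', b', hy', hb'⟩ hh
    obtain rfl : b = b' := congrArg Subtype.val hh
    obtain rfl : y = y' := Subtype.ext (hsep _ _ y.2.1 y.2.2 y'.2.1 y'.2.2 b hb hy hy')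
    rfl
  have hsig : Nat.card (Σ y : Y, {b : G ⧸ M // y.1 • b = b ∧ b ≠ base M}) = Nat.card Y * Nat.card E := by
    letI := Fintype.ofFinite Y
    rw [Nat.card_sigma, Finset.sum_congr rfl (fun y _ => h.card_fix_ne hfix y.2.2 (SEqData.SG_fix S y.2.1)),
      Finset.sum_const, smul_eq_mul, Finset.card_univ, ← Nat.card_eq_fintype_card]
  have hup : Nat.card Y ≤ Nat.card E ^ 2 := by
    have h1 := Nat.card_le_card_of_injective f hf
    rw [hsig, h.card_other hfix hx, pow_succ] at h1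
    exact Nat.le_of_mul_le_mul_right h1 Nat.card_pos
  have hYB : Nat.card YB = Nat.card E ^ 2 := le_antisymm (hle.trans hup) hlo
  refine ⟨fun y hy hyb => ?_, hYB, fun b hb => ?_, hsep⟩
  · have hbij : Function.Bijective (fun y : YB => (⟨y.1, hincl y, y.2.2⟩ : Y)) :=
      (Nat.bijective_iff_injective_and_card _).2 ⟨fun a b hab => Subtype.ext (congrArg (fun t : Y => t.1) hab),
        le_antisymm hle (hYB ▸ hup)⟩
    obtain ⟨y', hy'⟩ := hbij.2 ⟨y, hy, hyb⟩
    have e1 : y'.1 = y := congrArg (fun t : Y => t.1) hy'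
    exact e1 ▸ y'.2.1
  · have hY : Nat.card Y = Nat.card E ^ 2 := le_antisymm hup (hYB ▸ hle)
    have hbij : Function.Bijective f := (Nat.bijective_iff_injective_and_card f).2
      ⟨hf, by rw [hsig, h.card_other hfix hx, hY]; ring⟩
    obtain ⟨⟨y, b', hyb', hb'⟩, hfb⟩ := hbij.2 ⟨b, hb⟩
    obtain rfl : b' = b := congrArg Subtype.val hfb
    exact ⟨y.1, y.2.1, y.2.2, hyb'⟩

omit hfix hK hx hxp hBS in
theorem sq_mem_centA {g : G} (hg : g ∈ h.blockK x) : g * g ∈ h.centA x := by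
  obtain ⟨hgp, hgE, f, hf, hgf⟩ := hg
  refine ⟨by rw [mul_smul, hgp, hgp], mul_inv_eq_iff_eq_mul.1 ?_, fun e he => (hgE e he).mul_left (hgE e he)⟩
  rw [show g * g * x * (g * g)⁻¹ = g * (g * x * g⁻¹) * g⁻¹ by group, hgf,
    show g * (f * x) * g⁻¹ = (g * f * g⁻¹) * (g * x * g⁻¹) by group,
    show g * f * g⁻¹ = f by rw [(hgE f hf).eq, mul_inv_cancel_right], hgf, ← mul_assoc, h.res.grp_sq hf, one_mul]

/-- **The two halves of the block.** -/
theorem bad_or_diff {g : G} (hg : g ∈ h.blockK x) : Bad z g ↔ ¬ Bad z (x * g) := by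
  classical
  set B := h.blockK x with hBdef
  have hxB : x ∈ B := h.centA_le_blockK hfix hx hxp (h.self_mem_centA hx hxp)
  have hcase : ∀ g ∈ B, Bad z g ∨ Bad z (x * g) := by
    intro g hg
    obtain ⟨hgp, hgE, f, hf, hgf⟩ := id hg
    obtain ⟨y, hy, hyb, hyx⟩ := h.exists_bad_translation hfix hK hx hxp S hBS hf
    have hm : y⁻¹ * g ∈ h.centA x := h.mem_centA_of_blockK (mul_mem (inv_mem hy) hg) (by
      rw [show y⁻¹ * g * x * (y⁻¹ * g)⁻¹ = y⁻¹ * (g * x * g⁻¹) * y by group, hgf, ← hyx]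
      group)
    obtain ⟨e, he, hh⟩ := h.centA_cases hfix hK hx hxp hm
    have hye : Commute y e := h.commute_grp hyb hy.1 he
    rcases hh with hh | hh
    · left
      rw [show g = e * y by rw [← hye.eq, ← hh, mul_inv_cancel_left]]
      exact h.bad_translate' hyb hy.1 he
    · right
      have h1 : x * g = e * (x * y * x) := by
        calc x * g = x * (y * (e * x)) := by rw [← hh, mul_inv_cancel_left]
          _ = x * ((y * e) * x) := by group
          _ = (x * e) * (y * x) := by rw [hye.eq]; group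
          _ = e * (x * y * x) := by rw [(h.commute_grp hx hxp he).eq]; group
      rw [h1]
      have h2 := hyb.conj x
      rw [invol_inv hx.invol] at h2
      exact h.bad_translate' h2 (by rw [mul_smul, mul_smul, hxp, hy.1, hxp]) he
  have hYB := (h.bad_in_blockK hfix hK hx hxp S hBS).2.1
  let p : B → Prop := fun g => Bad z (g : G)
  have hc1 : Nat.card {g : B // p g} = Nat.card (h.res.grp (base M)) ^ 2 := by
    rw [← hYB]
    exact Nat.card_congr ⟨fun g => ⟨g.1.1, g.1.2, g.2⟩, fun g => ⟨⟨g.1, g.2.1⟩, g.2.2⟩, fun _ => rfl, fun _ => rfl⟩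
  have hc2 : Nat.card {g : B // ¬ p g} = Nat.card (h.res.grp (base M)) ^ 2 := by
    have h1 := Nat.card_congr (Equiv.sumCompl p)
    rw [Nat.card_sum, hc1, h.card_blockK hfix hK hx hxp] at h1
    omega
  let F : {g : B // ¬ p g} → {g : B // p g} := fun g => ⟨⟨x * g.1.1, mul_mem hxB g.1.2⟩,
    (hcase g.1.1 g.1.2).resolve_left g.2⟩
  have hF : Function.Bijective F := (Nat.bijective_iff_injective_and_card F).2
    ⟨fun a b hab => Subtype.ext (Subtype.ext (mul_left_cancel (congrArg (fun t : {g : B // p g} => (t.1 : G)) hab))),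
      hc2.trans hc1.symm⟩
  refine ⟨fun hb hb' => ?_, fun hh => (hcase g hg).resolve_right hh⟩
  obtain ⟨w, hw⟩ := hF.2 ⟨⟨x * g, mul_mem hxB hg⟩, hb'⟩
  have h2 : x * w.1.1 = x * g := congrArg (fun t : {g : B // p g} => (t.1 : G)) hw
  exact w.2 (show Bad z w.1.1 from mul_left_cancel h2 ▸ hb)

/-- The other half. -/
def diffV : Subgroup G where
  carrier := {g | g ∈ h.blockK x ∧ Bad z (x * g)}
  one_mem' := ⟨one_mem _, by rw [mul_one]; exact hx⟩
  inv_mem' := by
    rintro g ⟨hg, hb⟩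
    refine ⟨inv_mem hg, ?_⟩
    have h1 := invol_mul_self hb.invol
    have h2 : x * g⁻¹ = x * (x * g) * x⁻¹ := by
      rw [eq_mul_inv_iff_mul_eq]
      calc x * g⁻¹ * x = x * (g⁻¹ * x⁻¹) := by rw [invol_inv hx.invol]; group
        _ = x * (x * g)⁻¹ := by rw [mul_inv_rev]
        _ = _ := by rw [invol_inv hb.invol]
    rw [h2]
    exact hb.conj x
  mul_mem' := by
    rintro a b ⟨ha, hab⟩ ⟨hb, hbb⟩
    refine ⟨mul_mem ha hb, by_contra fun hno => ?_⟩
    have hab' : Bad z (a * b) := (h.bad_or_diff hfix hK hx hxp S hBS (mul_mem ha hb)).2 hno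
    -- `a b` is the product of the bad involutions `a x` and `x b`
    have hxx := invol_mul_self hx.invol
    have h1 : Bad z (a * x) := by
      have := hab.conj x
      rwa [← mul_assoc, hxx, one_mul, invol_inv hx.invol] at this
    have he : (a * x) * (x * b) = a * b := by rw [mul_assoc, ← mul_assoc x x, hxx, one_mul]
    have hne : a * x ≠ x * b := fun hh => by
      rw [hh, invol_mul_self hbb.invol] at he
      exact invol_ne_one hab'.invol he.symm
    have hcm : Commute (a * x) (x * b) := by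
      have h3 := invol_mul_self hab'.invol
      rw [← he] at h3
      calc a * x * (x * b) = (a * x * (x * b))⁻¹ := (inv_eq_of_mul_eq_one_left h3).symm
        _ = x * b * (a * x) := by rw [mul_inv_rev, invol_inv h1.invol, invol_inv hbb.invol]
    exact hab'.not_conj (he ▸ h.isConj_mul_of_commute hfix hK h1 hbb hcm hne)

theorem mem_diffV {g : G} : g ∈ h.diffV hfix hK hx hxp S hBS ↔ g ∈ h.blockK x ∧ ¬ Bad z g :=
  ⟨fun hg => ⟨hg.1, fun hh => (h.bad_or_diff hfix hK hx hxp S hBS hg.1).1 hh hg.2⟩,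
    fun hg => ⟨hg.1, by_contra fun hh => hg.2 ((h.bad_or_diff hfix hK hx hxp S hBS hg.1).2 hh)⟩⟩

theorem inv_diffV {g : G} (hg : g ∈ h.diffV hfix hK hx hxp S hBS) : x * g * x⁻¹ = g⁻¹ := by
  have h1 := invol_mul_self hg.2.invol
  rw [invol_inv hx.invol]
  refine (eq_inv_of_mul_eq_one_left ?_)
  calc x * g * x * g = (x * g) * (x * g) := by group
    _ = 1 := h1

theorem comm_diffV {a b : G} (ha : a ∈ h.diffV hfix hK hx hxp S hBS) (hb : b ∈ h.diffV hfix hK hx hxp S hBS) :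
    a * b = b * a := by
  have h1 := h.inv_diffV hfix hK hx hxp S hBS (mul_mem ha hb)
  rw [show x * (a * b) * x⁻¹ = (x * a * x⁻¹) * (x * b * x⁻¹) by group, h.inv_diffV hfix hK hx hxp S hBS ha,
    h.inv_diffV hfix hK hx hxp S hBS hb, ← mul_inv_rev, inv_inj] at h1
  exact h1.symm

theorem grp_le_diffV : h.res.grp (base M) ≤ h.diffV hfix hK hx hxp S hBS := fun e he =>
  ⟨h.centA_le_blockK hfix hx hxp (h.grp_le_centA hx hxp he), by
    rw [(h.commute_grp hx hxp he).eq]; exact h.bad_translate' hx hxp he⟩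

theorem sq_diffV {v : G} (hv : v ∈ h.diffV hfix hK hx hxp S hBS) : v * v ∈ h.res.grp (base M) := by
  obtain ⟨e, he, hh | hh⟩ := h.centA_cases hfix hK hx hxp (h.sq_mem_centA hv.1)
  · exact hh ▸ he
  · exfalso
    have := ((h.mem_diffV hfix hK hx hxp S hBS).1 (mul_mem hv hv)).2
    rw [hh] at this
    exact this (h.bad_translate' hx hxp he)

theorem exists_sq_diffV {e : G} (he : e ∈ h.res.grp (base M)) :
    ∃ v ∈ h.diffV hfix hK hx hxp S hBS, v * v = e := by
  obtain ⟨y, hy, hyb, hyx⟩ := h.exists_bad_translation hfix hK hx hxp S hBS he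
  have hxx := invol_mul_self hx.invol
  refine ⟨x * y, ⟨mul_mem (h.centA_le_blockK hfix hx hxp (h.self_mem_centA hx hxp)) hy, ?_⟩, ?_⟩
  · rwa [← mul_assoc, hxx, one_mul]
  · rw [invol_inv hyb.invol] at hyx
    calc x * y * (x * y) = x * (y * x * y) := by group
      _ = x * (e * x) := by rw [hyx]
      _ = e * (x * x) := by rw [← mul_assoc, (h.commute_grp hx hxp he).eq, mul_assoc]
      _ = e := by rw [hxx, mul_one]

theorem mem_grp_of_sq {v : G} (hv : v ∈ h.diffV hfix hK hx hxp S hBS) (hv2 : v * v = 1) :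
    v ∈ h.res.grp (base M) := by
  have h1 := h.inv_diffV hfix hK hx hxp S hBS hv
  rw [inv_eq_of_mul_eq_one_left hv2] at h1
  obtain ⟨e, he, hh | hh⟩ := h.centA_cases hfix hK hx hxp
    (g := v) ⟨hv.1.1, (mul_inv_eq_iff_eq_mul.1 h1).symm, hv.1.2.1⟩
  · exact hh ▸ he
  · exact absurd (hh ▸ h.bad_translate' hx hxp he) ((h.mem_diffV hfix hK hx hxp S hBS).1 hv).2

theorem card_diffV : Nat.card (h.diffV hfix hK hx hxp S hBS) = Nat.card (h.res.grp (base M)) ^ 2 := by
  rw [← (h.bad_in_blockK hfix hK hx hxp S hBS).2.1]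
  have hxB := h.centA_le_blockK hfix hx hxp (h.self_mem_centA hx hxp)
  have hxx := invol_mul_self hx.invol
  exact Nat.card_congr
    { toFun := fun v => ⟨x * v.1, mul_mem hxB v.2.1, v.2.2⟩
      invFun := fun y => ⟨x * y.1, mul_mem hxB y.2.1, by rw [← mul_assoc, hxx, one_mul]; exact y.2.2⟩
      left_inv := fun v => Subtype.ext (by show x * (x * (v : G)) = v; rw [← mul_assoc, hxx, one_mul])
      right_inv := fun y => Subtype.ext (by show x * (x * y.1) = y.1; rw [← mul_assoc, hxx, one_mul]) }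

/-- An element of `M` moving the block to itself preserves `V`. -/
theorem conj_diffV {g : G} (hg : ∀ b, b ∈ h.blockK x ↔ g * b * g⁻¹ ∈ h.blockK x) {v : G} :
    v ∈ h.diffV hfix hK hx hxp S hBS ↔ g * v * g⁻¹ ∈ h.diffV hfix hK hx hxp S hBS := by
  rw [h.mem_diffV hfix hK hx hxp S hBS, h.mem_diffV hfix hK hx hxp S hBS, ← hg]
  refine and_congr_right fun _ => not_congr ⟨fun hb => hb.conj g, fun hb => ?_⟩
  have := hb.conj g⁻¹
  simpa [mul_assoc] using this

/-- `S` normalises the block. -/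
theorem normalize_blockK {g : G} (hg : g ∈ SEqData.SG S) (b : G) :
    b ∈ h.blockK x ↔ g * b * g⁻¹ ∈ h.blockK x := by
  have key : ∀ g ∈ SEqData.SG S, ∀ b ∈ h.blockK x, g * b * g⁻¹ ∈ h.blockK x := by
    intro g hg b hb
    have hbad : ∀ y ∈ h.blockK x, Bad z y → g * y * g⁻¹ ∈ h.blockK x := fun y hy hyb =>
      (h.bad_in_blockK hfix hK hx hxp S hBS).1 _ (mul_mem (mul_mem hg (hBS hy)) (inv_mem hg)) (hyb.conj g)
    have hxB := h.centA_le_blockK hfix hx hxp (h.self_mem_centA hx hxp)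
    by_cases hb' : Bad z b
    · exact hbad b hb hb'
    have hxb := ((h.mem_diffV hfix hK hx hxp S hBS).2 ⟨hb, hb'⟩).2
    rw [show g * b * g⁻¹ = (g * x * g⁻¹) * (g * (x * b) * g⁻¹) by
      rw [show g * x * g⁻¹ * (g * (x * b) * g⁻¹) = g * ((x * x) * b) * g⁻¹ by group, invol_mul_self hx.invol, one_mul]]
    exact mul_mem (hbad x hxB hx) (hbad _ (mul_mem hxB hb) hxb)
  refine ⟨key g hg b, fun hb => ?_⟩
  have := key g⁻¹ (inv_mem hg) _ hb
  simpa [mul_assoc] using this

end EqRes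

end CfsgLib.SECrit.Eq
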