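import Cfsg.Agent.Lib.Invol.SECriterion.EqType.NoKlein
import Cfsg.Agent.Lib.Invol.SECriterion.EqType.Pencil.Singer

/-!
# The strong embedding criterion, equal type with `s = q`: the torus on `E`

`M` acts on the group `E` at its point by conjugation.  The products of two swaps of the base point and a
further fixed point `a` of a bad involution `x` give a cyclic group, transitive on the members and
normalised by the image of `C_M(x)`.
-/

set_option autoImplicit false
set_option linter.style.haveILetI false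

namespace CfsgLib.SECrit.Eq

open CfsgLib.Invol Small

universe u

variable {G : Type u} [Group G] [Finite G] {M : Subgroup G} {z : G}

namespace EqRes

variable (h : EqRes M z)

/-- Conjugation of `M` on the group at its point. -/
def conjE : M →* MulAut (h.res.grp (base M)) where
  toFun m :=
    { toFun := fun e => ⟨(m : G) * e * (m : G)⁻¹, h.res.grp_conj (smul_base_iff.2 m.2) e.2⟩
      invFun := fun e => ⟨(m : G)⁻¹ * e * m, by
        simpa using h.res.grp_conj (smul_base_iff.2 (inv_mem m.2)) e.2⟩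
      left_inv := fun e => Subtype.ext (show (m : G)⁻¹ * ((m : G) * e * (m : G)⁻¹) * m = e by group)
      right_inv := fun e => Subtype.ext (show (m : G) * ((m : G)⁻¹ * e * m) * (m : G)⁻¹ = e by group)
      map_mul' := fun e f => Subtype.ext (show (m : G) * ((e : G) * f) * (m : G)⁻¹ =
        (m : G) * e * (m : G)⁻¹ * ((m : G) * f * (m : G)⁻¹) by group) }
  map_one' := MulEquiv.ext fun e => Subtype.ext (show ((1 : M) : G) * e * ((1 : M) : G)⁻¹ = e by simp)
  map_mul' m k := MulEquiv.ext fun e => Subtype.ext (show ((m * k : M) : G) * e * ((m * k : M) : G)⁻¹ =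
    (m : G) * ((k : G) * e * (k : G)⁻¹) * (m : G)⁻¹ by simp [mul_assoc])

theorem conjE_apply (m : M) (e : h.res.grp (base M)) : ((h.conjE m e : h.res.grp (base M)) : G) = (m : G) * e * (m : G)⁻¹ :=
  rfl

theorem conjE_eq_one_iff {m : M} : h.conjE m = 1 ↔ ∀ e ∈ h.res.grp (base M), Commute (m : G) e := by
  constructor
  · intro hm e he
    exact mul_inv_eq_iff_eq_mul.1 (congrArg Subtype.val (MulEquiv.congr_fun hm ⟨e, he⟩))
  · intro hm
    refine MulEquiv.ext fun e => Subtype.ext ?_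
    show (m : G) * e * (m : G)⁻¹ = e
    rw [(hm e e.2).eq, mul_inv_cancel_right]

/-- The image of the centralizer of `x`. -/
def centImage (x : G) : Subgroup h.conjE.range :=
  ((Subgroup.centralizer ({x} : Set G)).subgroupOf M).map h.conjE.rangeRestrict

theorem mem_centImage {x : G} {l : h.conjE.range} :
    l ∈ h.centImage x ↔ ∃ m : M, Commute (m : G) x ∧ h.conjE.rangeRestrict m = l := by
  constructor
  · rintro ⟨m, hm, rfl⟩
    exact ⟨m, Subgroup.mem_centralizer_singleton_iff.1 (Subgroup.mem_subgroupOf.1 hm), rfl⟩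
  · rintro ⟨m, hm, rfl⟩
    exact ⟨m, Subgroup.mem_subgroupOf.2 (Subgroup.mem_centralizer_singleton_iff.2 hm.eq), rfl⟩

include h in
theorem exists_two : ∃ d e : G, IsConj z d ∧ IsConj z e ∧ d • base M = base M ∧ e • base M = base M ∧ d ≠ e := by
  have h2 : 1 < Nat.card (DAt z (base M)) := by
    rw [card_DAt]
    have := h.two_le
    omega
  obtain ⟨a, b, hab⟩ := (Finite.one_lt_card_iff_nontrivial.1 h2).exists_pair_ne
  exact ⟨a.1, b.1, a.2.1, b.2.1, a.2.2, b.2.2, fun e1 => hab (Subtype.ext e1)⟩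

/-- **The torus.** -/
theorem exists_torus_group (hfix : ∀ x : G, Bad z x → fix M x = deg M z + 2) (hS : Setup M z)
    (hloc : ∀ x : G, IsBad M x → Local M z x) {x : G} (hx : Bad z x) (hxp : x • base M = base M) :
    ∃ C : Subgroup h.conjE.range, Pencil.Singer h.conjE.range (h.res.grp (base M)) C ∧ IsCyclic C ∧
      C ≤ h.centImage x ∧ ∀ g ∈ h.centImage x, ∀ c ∈ C, g * c * g⁻¹ ∈ C := by
  classical
  obtain ⟨a, hap, ha⟩ := h.res.bad_two_fix hx hxp
  have hl := hloc x ⟨hx.invol, base M, a, hap.symm, hxp, ha⟩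
  obtain ⟨f, hf, hfa, hxf⟩ := h.res.crit.exists_commuting_invol hx.invol ha
  obtain ⟨d₀, e₀, hd₀, he₀, hd₀p, he₀p, hne₀⟩ := h.exists_two
  have hxE : ∀ e ∈ h.res.grp (base M), Commute x e := fun e he => h.commute_grp hx hxp he
  -- swaps
  let Sw := {k : G // IsConj z k ∧ Commute x k ∧ k • base M = a}
  have hsw : ∀ k : Sw, k.1 • a = base M := fun k => by
    have h1 : k.1 • k.1 • base M = base M := by
      rw [smul_smul, invol_mul_self (h.res.crit.orderOf_conj k.2.1), one_smul]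
    rwa [k.2.2.2] at h1
  have hmid : ∀ e ∈ h.res.grp (base M), e ≠ 1 → ∃ k : Sw, k.1 * e * k.1⁻¹ = f := by
    intro e he he1
    obtain ⟨hez, hep⟩ := he.resolve_left he1
    obtain ⟨g, hg, hgf⟩ := h.res.crit.exists_midpoint hez hf hep hfa hap.symm
    exact ⟨⟨g, hg, h.res.crit.commute_midpoint hez hf hg hep hfa hap.symm hgf (hxE e he) hxf,
      h.res.crit.smul_eq_of_conj hf hgf hep hfa⟩, hgf⟩
  obtain ⟨t, -⟩ := hmid d₀ (Or.inr ⟨hd₀, hd₀p⟩) (invol_ne_one (h.res.crit.orderOf_conj hd₀))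
  let mk2 : Sw → Sw → M := fun k k' => ⟨k.1 * k'.1, smul_base_iff.1 (by rw [mul_smul, k'.2.2.2, hsw])⟩
  let gen : Set h.conjE.range := Set.range fun k : Sw => h.conjE.rangeRestrict (mk2 k t)
  let C := Subgroup.closure gen
  have hcommgen : ∀ g ∈ gen, ∀ g' ∈ gen, g * g' = g' * g := by
    rintro _ ⟨k, rfl⟩ _ ⟨k', rfl⟩
    have h1 : h.conjE.rangeRestrict (mk2 k t * mk2 k' t * (mk2 k t)⁻¹ * (mk2 k' t)⁻¹) = 1 := by
      refine Subtype.ext (h.conjE_eq_one_iff.2 fun e he => ?_)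
      rcases (show e = 1 ∨ _ from he) with rfl | ⟨hez, hep⟩
      · exact Commute.one_right _
      exact hS.swap_comm hl hx.invol hap hxp ha hd₀ he₀ (hxE _ (Or.inr ⟨hd₀, hd₀p⟩))
        (hxE _ (Or.inr ⟨he₀, he₀p⟩)) hd₀p he₀p hne₀ t.2.1 t.2.2.1 t.2.2.2 k.2.1 k.2.2.1 k.2.2.2 k'.2.1 k'.2.2.1
        k'.2.2.2 hez (hxE e (Or.inr ⟨hez, hep⟩))
    simp only [map_mul, map_inv, mul_inv_eq_iff_eq_mul, one_mul] at h1
    exact h1
  have hcomm : ∀ g ∈ C, ∀ g' ∈ C, g * g' = g' * g := by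
    have h1 : C ≤ Subgroup.centralizer gen := (Subgroup.closure_le _).2 fun g hg =>
      Subgroup.mem_centralizer_iff.2 fun g' hg' => hcommgen g' hg' g hg
    have h2 : C ≤ Subgroup.centralizer (C : Set h.conjE.range) := (Subgroup.closure_le _).2 fun g hg =>
      Subgroup.mem_centralizer_iff.2 fun g' hg' => ((Subgroup.mem_centralizer_iff.1 (h1 hg')) g hg).symm
    exact fun g hg g' hg' => Subgroup.mem_centralizer_iff.1 (h2 hg') g hg
  have hf₀ : t.1 * f * t.1⁻¹ ∈ h.res.grp (base M) := by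
    refine Or.inr ⟨hf.trans (isConj_iff.2 ⟨t.1, rfl⟩), ?_⟩
    rw [mul_smul, mul_smul, inv_smul_eq_iff.2 (hsw t).symm, hfa, hsw]
  have hge : ∀ e ∈ h.res.grp (base M), e ≠ 1 →
      ∃ c ∈ C, (((c • (⟨_, hf₀⟩ : h.res.grp (base M))) : h.res.grp (base M)) : G) = e := by
    intro e he he1
    obtain ⟨k, hk⟩ := hmid e he he1
    refine ⟨h.conjE.rangeRestrict (mk2 k t), Subgroup.subset_closure ⟨k, rfl⟩, ?_⟩
    show k.1 * t.1 * (t.1 * f * t.1⁻¹) * (k.1 * t.1)⁻¹ = e
    have htt := invol_mul_self (h.res.crit.orderOf_conj t.2.1)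
    calc k.1 * t.1 * (t.1 * f * t.1⁻¹) * (k.1 * t.1)⁻¹
        = k.1 * ((t.1 * t.1) * f * (t.1 * t.1)⁻¹) * k.1⁻¹ := by group
      _ = k.1 * (k.1 * e * k.1⁻¹) * k.1⁻¹ := by rw [htt, hk]; group
      _ = (k.1 * k.1) * e * (k.1 * k.1)⁻¹ := by group
      _ = e := by rw [invol_mul_self (h.res.crit.orderOf_conj k.2.1), one_mul, inv_one, mul_one]
  have hsing : Pencil.Singer h.conjE.range (h.res.grp (base M)) C := by
    refine ⟨fun e => Subtype.ext (h.res.grp_sq e.2), hcomm, fun e e' he he' => ?_, fun g hg => ?_⟩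
    · obtain ⟨c, hc, hce⟩ := hge e e.2 fun e1 => he (Subtype.ext e1)
      obtain ⟨c', hc', hce'⟩ := hge e' e'.2 fun e1 => he' (Subtype.ext e1)
      refine ⟨c' * c⁻¹, mul_mem hc' (inv_mem hc), ?_⟩
      rw [← Subtype.ext hce, mul_smul, inv_smul_smul]
      exact Subtype.ext hce'
    · exact Subtype.ext (MulEquiv.ext hg)
  have hCle : C ≤ h.centImage x := by
    refine (Subgroup.closure_le _).2 ?_
    rintro _ ⟨k, rfl⟩
    exact h.mem_centImage.2 ⟨mk2 k t, (k.2.2.1.mul_right t.2.2.1).symm, rfl⟩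
  obtain ⟨β, hβ⟩ := IsPGroup.iff_card.1 (h.res.isPGroup_grp (base M))
  have hne1 : (⟨d₀, Or.inr ⟨hd₀, hd₀p⟩⟩ : h.res.grp (base M)) ≠ 1 := fun e1 =>
    invol_ne_one (h.res.crit.orderOf_conj hd₀) (congrArg Subtype.val e1)
  refine ⟨C, hsing, (hsing.fix_normalizer hβ ⊥ hne1 (fun g hg => by rw [Subgroup.mem_bot.1 hg, one_smul])
    (fun g hg c hc => by rw [Subgroup.mem_bot.1 hg]; simpa using hc)).2.2, hCle, ?_⟩
  intro g hg c hc
  obtain ⟨m, hmx, rfl⟩ := h.mem_centImage.1 hg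
  have hmp : (m : G) • base M = base M := smul_base_iff.2 m.2
  -- fix `a`
  obtain ⟨e, he, hea⟩ := h.exists_grp_smul hfix hx hxp ha hap (b := (m : G) • a)
    (by rw [smul_smul, ← hmx.eq, mul_smul, ha])
    (fun hh => hap (smul_left_cancel (m : G) (hh.trans hmp.symm)))
  let n : M := ⟨e⁻¹ * (m : G), mul_mem (inv_mem (smul_base_iff.1 (h.res.grp_smul he))) m.2⟩
  have hna : (n : G) • a = a := by show (e⁻¹ * (m : G)) • a = a; rw [mul_smul, ← hea, inv_smul_smul]
  have hnp : (n : G) • base M = base M := smul_base_iff.2 n.2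
  have hnx : Commute (n : G) x := (hxE e he).symm.inv_left.mul_left hmx
  have hnm : h.conjE.rangeRestrict n = h.conjE.rangeRestrict m := by
    have h1 : h.conjE.rangeRestrict ⟨e⁻¹, inv_mem (smul_base_iff.1 (h.res.grp_smul he))⟩ = 1 :=
      Subtype.ext (h.conjE_eq_one_iff.2 fun d hd => (h.res.grp_commute he hd).inv_left)
    rw [show n = ⟨e⁻¹, inv_mem (smul_base_iff.1 (h.res.grp_smul he))⟩ * m from rfl, map_mul, h1, one_mul]
  rw [← hnm]
  have hni : (n : G)⁻¹ • base M = base M := inv_smul_eq_iff.2 hnp.symm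
  have hconj : ∀ k : Sw, ∃ k' : Sw, (n : G) * k.1 * (n : G)⁻¹ = k'.1 := fun k =>
    ⟨⟨(n : G) * k.1 * (n : G)⁻¹, k.2.1.trans (isConj_iff.2 ⟨n, rfl⟩),
      (hnx.symm.mul_right k.2.2.1).mul_right hnx.symm.inv_right,
      by rw [mul_smul, mul_smul, hni, k.2.2.2, hna]⟩, rfl⟩
  induction hc using Subgroup.closure_induction with
  | mem c hc =>
    obtain ⟨k, rfl⟩ := hc
    obtain ⟨k', hk'⟩ := hconj k
    obtain ⟨t', ht'⟩ := hconj t
    have h1 : n * mk2 k t * n⁻¹ = mk2 k' t * (mk2 t' t)⁻¹ := by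
      refine Subtype.ext ?_
      show (n : G) * (k.1 * t.1) * (n : G)⁻¹ = k'.1 * t.1 * (t'.1 * t.1)⁻¹
      rw [← hk', ← ht', mul_inv_rev]
      conv_lhs => rw [← invol_inv (h.res.crit.orderOf_conj t.2.1)]
      simp only [n]
      group
    rw [← map_inv, ← map_mul, ← map_mul, h1, map_mul, map_inv]
    exact mul_mem (Subgroup.subset_closure ⟨k', rfl⟩) (inv_mem (Subgroup.subset_closure ⟨t', rfl⟩))
  | one => simp
  | mul c c' _ _ ihc ihc' =>
    rw [show h.conjE.rangeRestrict n * (c * c') * (h.conjE.rangeRestrict n)⁻¹ =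
      (h.conjE.rangeRestrict n * c * (h.conjE.rangeRestrict n)⁻¹) *
        (h.conjE.rangeRestrict n * c' * (h.conjE.rangeRestrict n)⁻¹) by group]
    exact mul_mem ihc ihc'
  | inv c _ ihc =>
    rw [show h.conjE.rangeRestrict n * c⁻¹ * (h.conjE.rangeRestrict n)⁻¹ =
      (h.conjE.rangeRestrict n * c * (h.conjE.rangeRestrict n)⁻¹)⁻¹ by group]
    exact inv_mem ihc

end EqRes

end CfsgLib.SECrit.Eq
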