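import Cfsg.Agent.Lib.Invol.SECriterion.EqType.Equal.Block
import Cfsg.Agent.Lib.Invol.SECriterion.EqType.Equal.Torus

/-!
# The strong embedding criterion, equal type with `s = q`: a Sylow subgroup of `C_M(E)` over the block

`S` is a Sylow two-subgroup of `M` whose intersection with the kernel of the action on `E` is a Sylow
subgroup `P` of that kernel and contains the block.  The kernel is reached from `M` by Frattini.
-/

set_option autoImplicit false
set_option linter.style.haveILetI false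

namespace CfsgLib.SECrit.Eq

open CfsgLib.Invol Small

universe u

variable {G : Type u} [Group G] [Finite G] {M : Subgroup G} {z : G}

namespace EqRes

variable (h : EqRes M z)

/-- The part of `S` in the kernel. -/
abbrev kerPart (S : Sylow 2 M) : Subgroup M := (S : Subgroup M) ⊓ h.conjE.ker

include h in
theorem exists_kerSylow (hfix : ∀ x : G, Bad z x → fix M x = deg M z + 2) (hK : NoKlein M z) {x : G}
    (hx : Bad z x) (hxp : x • base M = base M) :
    ∃ S : Sylow 2 M, h.blockK x ≤ SEqData.SG S ∧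
      (∀ T : Subgroup M, IsPGroup 2 T → T ≤ h.conjE.ker → ∃ k ∈ h.conjE.ker,
        ∀ t ∈ T, k * t * k⁻¹ ∈ h.kerPart S) ∧
      ∀ m : M, ∃ n : M, n⁻¹ * m ∈ h.conjE.ker ∧ ∀ t, t ∈ h.kerPart S ↔ n * t * n⁻¹ ∈ h.kerPart S := by
  classical
  haveI : Fact (Nat.Prime 2) := ⟨Nat.prime_two⟩
  have hBM : h.blockK x ≤ M := fun g hg => smul_base_iff.1 hg.1
  set N := h.conjE.ker
  let BN : Subgroup N := ((h.blockK x).subgroupOf M).subgroupOf N
  have hBN : (h.blockK x).subgroupOf M ≤ N := fun b hb => h.conjE_eq_one_iff.2 fun e he => hb.2.1 e he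
  have hBP : IsPGroup 2 BN := (((h.isPGroup_blockK hfix hK hx hxp).of_equiv
    (Subgroup.subgroupOfEquivOfLe hBM).symm)).of_equiv (Subgroup.subgroupOfEquivOfLe hBN).symm
  obtain ⟨P, hP⟩ := hBP.exists_le_sylow
  obtain ⟨S, hS⟩ := (P.2.map N.subtype).exists_le_sylow
  have hPeq : (P : Subgroup N).map N.subtype = h.kerPart S := by
    refine le_antisymm ?_ ?_
    · intro t ht
      refine ⟨hS ht, ?_⟩
      obtain ⟨p, -, rfl⟩ := ht
      exact p.2
    · rintro t ⟨htS, htN⟩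
      have h1 : ((S : Subgroup M).subgroupOf N) = (P : Subgroup N) :=
        P.3 (S.2.comap_subtype) fun p hp => Subgroup.mem_subgroupOf.2 (hS ⟨p, hp, rfl⟩)
      exact ⟨⟨t, htN⟩, h1 ▸ Subgroup.mem_subgroupOf.2 htS, rfl⟩
  refine ⟨S, fun b hb => (SEqData.mem_SG S).2 ⟨hBM hb, ?_⟩, fun T hT hTN => ?_, fun m => ?_⟩
  · exact hS ⟨⟨⟨b, hBM hb⟩, hBN hb⟩, hP (show (⟨b, hBM hb⟩ : M) ∈ (h.blockK x).subgroupOf M from hb), rfl⟩
  · obtain ⟨Q, hQ⟩ := (hT.of_equiv (Subgroup.subgroupOfEquivOfLe hTN).symm).exists_le_sylow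
    obtain ⟨k, hk⟩ := MulAction.exists_smul_eq N Q P
    refine ⟨k, k.2, fun t ht => ?_⟩
    rw [← hPeq]
    refine ⟨k * ⟨t, hTN ht⟩ * k⁻¹, ?_, rfl⟩
    rw [← hk, Sylow.coe_subgroup_smul]
    exact Subgroup.smul_mem_pointwise_smul (⟨t, hTN ht⟩ : N) (MulAut.conj k) _ (hQ ht)
  · obtain ⟨n, hn, k, hk, hnk⟩ := Subgroup.mem_sup_of_normal_right.1
      ((Sylow.normalizer_sup_eq_top P).symm ▸ Subgroup.mem_top m)
    refine ⟨n, by rw [← hnk, inv_mul_cancel_left]; exact hk, fun t => ?_⟩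
    rw [← hPeq]
    exact Subgroup.mem_normalizer_iff.1 hn t

end EqRes

end CfsgLib.SECrit.Eq
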