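import Cfsg.Agent.Lib.Invol.SECriterion.EqType.NoKlein

/-!
# The strong embedding criterion, equal type with `s = q`: a mover centralizing `E`

`A = C(x) ∩ C(E)` at the base point.  If no two-element of `C(E)` normalizing `A` moves `x`, then `A`
holds all bad involutions of a Sylow subgroup `S` containing it, these fix exactly `q ^ 2` further
points, and `S`, of order at least `q |A|`, is free on the remaining `q ^ 2 (q - 1)`: impossible.
-/

set_option autoImplicit false
set_option linter.style.haveILetI false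

namespace CfsgLib.SECrit.Eq

open CfsgLib.Invol Small

variable {G : Type*} [Group G] [Finite G] {M : Subgroup G} {z : G}

namespace EqRes

variable (h : EqRes M z) (hfix : ∀ x : G, Bad z x → fix M x = deg M z + 2)
include h hfix

/-- Conjugation inside `M` from `A(x)` to `A(k x k⁻¹)`. -/
theorem conj_centA {x k g : G} (hk : k • base M = base M) (hg : g ∈ h.centA x) :
    k * g * k⁻¹ ∈ h.centA (k * x * k⁻¹) := by
  have hki : k⁻¹ • base M = base M := inv_smul_eq_iff.2 hk.symm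
  refine ⟨by rw [mul_smul, mul_smul, hki, hg.1, hk], ?_, fun e he => ?_⟩
  · simpa [mul_assoc] using Commute.map hg.2.1 (MulAut.conj k).toMonoidHom
  · simpa [mul_assoc] using Commute.map (hg.2.2 _ (h.res.grp_conj hki he)) (MulAut.conj k).toMonoidHom

omit hfix in
/-- The group normalizing `A` in `M`. -/
def normA (x : G) : Subgroup G :=
  Subgroup.normalizer (h.centA x : Set G) ⊓ MulAction.stabilizer G (base M)

theorem mem_normA_of_conj {x k : G} (hx : Bad z x) (hxp : x • base M = base M) (hk : k • base M = base M)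
    (hkx : k * x * k⁻¹ ∈ h.centA x) : k ∈ h.normA x := by
  refine ⟨Subgroup.mem_normalizer_iff.2 fun g => ⟨fun hg => ?_, fun hg => ?_⟩, hk⟩
  · rw [← h.centA_eq hfix hx hxp (hx.conj k) hkx]
    exact h.conj_centA hfix hk hg
  · rw [← h.centA_eq hfix hx hxp (hx.conj k) hkx] at hg
    have := h.conj_centA hfix (inv_smul_eq_iff.2 hk.symm) hg
    simpa [mul_assoc] using this

/-- `x` is conjugate in `M` to its translates. -/
theorem exists_conj_translate {x : G} (hx : Bad z x) (hxp : x • base M = base M) {d : G}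
    (hd : d ∈ h.res.grp (base M)) : ∃ k ∈ h.normA x, k * x * k⁻¹ = x * d := by
  by_cases hd1 : d = 1
  · exact ⟨1, one_mem _, by rw [hd1]; group⟩
  obtain ⟨hdz, hdp⟩ := hd.resolve_left hd1
  obtain ⟨a, hap, ha⟩ := h.res.bad_two_fix hx hxp
  obtain ⟨e, ⟨he, hep⟩, hne⟩ : ∃ e, (IsConj z e ∧ e • base M = base M) ∧ e ≠ d := by
    by_contra hh
    push Not at hh
    have : Subsingleton (DAt z (base M)) :=
      ⟨fun a b => Subtype.ext ((hh a.1 a.2).trans (hh b.1 b.2).symm)⟩
    have h3 : Nat.card (DAt z (base M)) ≤ 1 := Finite.card_le_one_iff_subsingleton.2 this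
    have h2 := h.two_le
    rw [card_DAt] at h3
    omega
  have hxd := h.commute_grp hx hxp hd
  obtain ⟨g, hgy⟩ := isConj_iff.1 (h.res.crit.isConj_mul_member h.res.free hx.invol hap.symm hxp ha hdz he
    hxd (h.commute_grp hx hxp (Or.inr ⟨he, hep⟩)) (h.res.comm d e _ hdz he hdp hep) hne.symm hdz hxd)
  have hyp : (x * d) • base M = base M := by rw [mul_smul, hdp, hxp]
  suffices ∃ k, k • base M = base M ∧ k * x * k⁻¹ = x * d by
    obtain ⟨k, hk, hkx⟩ := this
    exact ⟨k, h.mem_normA_of_conj hfix hx hxp hk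
      (hkx ▸ mul_mem (h.self_mem_centA hx hxp) (h.grp_le_centA hx hxp hd)), hkx⟩
  rw [← hgy] at hyp ⊢
  by_cases hb : g⁻¹ • base M = base M
  · exact ⟨g, (inv_smul_eq_iff.1 hb).symm, rfl⟩
  have hxb : x • (g⁻¹ • base M) = g⁻¹ • base M := by
    have := congrArg (g⁻¹ • ·) hyp
    simpa [smul_smul, mul_assoc] using this
  obtain ⟨c, -, hc, hxc⟩ := h.res.crit.exists_commuting_swap (Crit.isPGroup_zpowers_invol hx.invol) (Ne.symm hb)
    (Crit.forall_zpowers_fix hxp) (Crit.forall_zpowers_fix hxb)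
  refine ⟨g * c, by rw [mul_smul, hc, smul_inv_smul], ?_⟩
  rw [show g * c * x * (g * c)⁻¹ = g * (c * x * c⁻¹) * g⁻¹ by group,
    ← (hxc x (Subgroup.mem_zpowers x)).eq, mul_inv_cancel_right]

theorem card_fix_ne {u : G} (hu : Bad z u) {p : G ⧸ M} (hup : u • p = p) :
    Nat.card {b : G ⧸ M // u • b = b ∧ b ≠ p} = Nat.card (h.res.grp p) := by
  classical
  have h1 : Nat.card {b : G ⧸ M // u • b = b ∧ b ≠ p} + 1 = fix M u := by
    rw [fix, ← Finite.card_option, ← Nat.card_congr (Equiv.optionSubtypeNe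
      (⟨p, hup⟩ : {c : G ⧸ M // u • c = c}))]
    exact Nat.card_congr (Equiv.optionCongr
      ⟨fun c => ⟨⟨c.1, c.2.1⟩, fun hh => c.2.2 (congrArg Subtype.val hh)⟩,
        fun c => ⟨c.1.1, c.1.2, fun hh => c.2 (Subtype.ext hh)⟩, fun _ => rfl, fun _ => rfl⟩)
  have h2 := hfix u hu
  have h3 := h.res.card_grp p
  omega

/-- The points besides the base point. -/
theorem card_other {x : G} (hx : Bad z x) :
    Nat.card {b : G ⧸ M // b ≠ base M} = Nat.card (h.res.grp (base M)) ^ 3 := by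
  classical
  have h1 := Nat.card_congr (Equiv.optionSubtypeNe (base M))
  rw [Finite.card_option, h.card_points hx, hfix x hx] at h1
  rw [h.res.card_grp]
  have h2 : deg M z + 2 + (deg M z + 2) * deg M z * (deg M z + 2 - 1) = (deg M z + 1) ^ 3 + 1 := by
    rw [show deg M z + 2 - 1 = deg M z + 1 by omega]; ring
  omega

/-- **Not all bad involutions of a Sylow subgroup lie in `A`.** -/
theorem exists_bad_outside {x : G} (hx : Bad z x) (hxp : x • base M = base M) (T : Sylow 2 M)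
    (hAT : h.centA x ≤ SEqData.SG T) : ∃ u ∈ SEqData.SG T, Bad z u ∧ u ∉ h.centA x := by
  classical
  haveI : Fact (Nat.Prime 2) := ⟨Nat.prime_two⟩
  by_contra hno
  push Not at hno
  set E := h.res.grp (base M) with hE
  set A := h.centA x with hA
  have hA2 : IsPGroup 2 A := fun v =>
    ⟨1, Subtype.ext (by show (v : G) ^ 2 ^ 1 = 1; rw [pow_one, pow_two, h.centA_sq hfix hx hxp v.2])⟩
  let P : Subgroup G := SEqData.SG T ⊓ Subgroup.centralizer (E : Set G)
  have hAP : A ≤ P := fun g hg => ⟨hAT hg, Subgroup.mem_centralizer_iff.2 fun e he => (hg.2.2 e he).eq.symm⟩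
  -- the covered points
  have hW : ∀ b : G ⧸ M, b ≠ base M → ∀ u ∈ A, Bad z u → u • b = b →
      Nat.card (A ⊓ MulAction.stabilizer G b : Subgroup G) * Nat.card E = Nat.card A := by
    intro b hb u huA hu hub
    have hAu : h.centA u = A := h.centA_eq hfix hx hxp hu huA
    rw [← Nat.card_prod]
    refine Nat.card_eq_of_bijective (fun p : (A ⊓ MulAction.stabilizer G b : Subgroup G) × E =>
      (⟨(p.2 : G) * p.1, mul_mem (h.grp_le_centA hx hxp p.2.2) p.1.2.1⟩ : A)) ⟨?_, ?_⟩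
    · rintro ⟨⟨w, hw⟩, ⟨e, he⟩⟩ ⟨⟨w', hw'⟩, ⟨e', he'⟩⟩ hh
      have h1 : e * w = e' * w' := congrArg Subtype.val hh
      have h2 : (e'⁻¹ * e) • b = b := by
        rw [show e'⁻¹ * e = w' * w⁻¹ by rw [eq_mul_inv_iff_mul_eq, mul_assoc, h1, inv_mul_cancel_left], mul_smul,
          inv_smul_eq_iff.2 (MulAction.mem_stabilizer_iff.1 hw.2).symm, MulAction.mem_stabilizer_iff.1 hw'.2]
      obtain rfl : e' = e := inv_mul_eq_one.1 (h.eq_one_of_grp_fix (mul_mem (inv_mem he') he) hb h2)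
      obtain rfl : w = w' := mul_left_cancel h1
      rfl
    · rintro ⟨g, hg⟩
      obtain ⟨e, he, w, hw, hwb, rfl⟩ := h.exists_decomp hfix hu huA.1 hub hb (g := g) (by rw [hAu]; exact hg)
      exact ⟨(⟨w, hAu ▸ hw, hwb⟩, ⟨e, he⟩), rfl⟩
  let Bd := {u : G // u ∈ A ∧ u ∉ E}
  have hBd : ∀ u : Bd, Bad z u.1 := fun u => h.bad_of_centA hfix hx hxp u.2.1 u.2.2
  let Cov := {b : {b : G ⧸ M // b ≠ base M} // ∃ u : Bd, u.1 • b.1 = b.1}
  have hxE : x ∉ E := h.not_mem_grp_of_bad hx
  obtain ⟨a, hap, ha⟩ := h.res.bad_two_fix hx hxp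
  set w := Nat.card (A ⊓ MulAction.stabilizer G a : Subgroup G) with hw
  have hwA : w * Nat.card E = Nat.card A := hW a hap x (h.self_mem_centA hx hxp) hx ha
  have hcov : Nat.card Cov = Nat.card E ^ 2 := by
    have e1 : Nat.card (Σ u : Bd, {b : G ⧸ M // u.1 • b = b ∧ b ≠ base M}) =
        Nat.card (Σ b : Cov, {u : Bd // u.1 • b.1.1 = b.1.1}) :=
      Nat.card_congr
        { toFun := fun s => ⟨⟨⟨s.2.1, s.2.2.2⟩, s.1, s.2.2.1⟩, s.1, s.2.2.1⟩
          invFun := fun s => ⟨s.2.1, s.1.1.1, s.2.2, s.1.1.2⟩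
          left_inv := fun _ => rfl
          right_inv := fun _ => rfl }
    have hfib : ∀ b : Cov, Nat.card {u : Bd // u.1 • b.1.1 = b.1.1} + 1 = w := by
      rintro ⟨⟨b, hb⟩, ⟨u, huA, huE⟩, hub⟩
      set Wb := (A ⊓ MulAction.stabilizer G b : Subgroup G)
      have h1 : Nat.card Wb = w := Nat.eq_of_mul_eq_mul_right (Nat.card_pos (α := E))
        ((hW b hb u huA (h.bad_of_centA hfix hx hxp huA huE) hub).trans hwA.symm)
      rw [← h1, ← Finite.card_option, ← Nat.card_congr (Equiv.optionSubtypeNe (1 : Wb))]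
      exact Nat.card_congr (Equiv.optionCongr
        { toFun := fun v => ⟨⟨v.1.1, v.1.2.1, v.2⟩, fun hh => v.1.2.2 ((congrArg Subtype.val hh :) ▸ one_mem E)⟩
          invFun := fun v => ⟨⟨v.1.1, v.1.2.1, fun hh => v.2 (Subtype.ext (h.eq_one_of_grp_fix hh hb v.1.2.2))⟩, v.1.2.2⟩
          left_inv := fun _ => rfl
          right_inv := fun _ => rfl })
    letI := Fintype.ofFinite Cov
    letI := Fintype.ofFinite Bd
    rw [Nat.card_sigma, Finset.sum_congr rfl (fun u _ => h.card_fix_ne hfix (hBd u) u.2.1.1), Finset.sum_const,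
      Nat.card_sigma, Finset.sum_congr rfl (fun b _ => show _ = w - 1 by have := hfib b; omega), Finset.sum_const,
      smul_eq_mul, smul_eq_mul, Finset.card_univ, Finset.card_univ, ← Nat.card_eq_fintype_card,
      ← Nat.card_eq_fintype_card] at e1
    have hBdcard : Nat.card Bd + Nat.card E = Nat.card A := by
      rw [← Nat.card_congr (Equiv.sumCompl fun g : A => (g : G) ∉ E), Nat.card_sum]
      refine congrArg₂ (· + ·) (Nat.card_congr ⟨fun g => ⟨⟨g.1, g.2.1⟩, g.2.2⟩, fun g => ⟨g.1.1, g.1.2, g.2⟩,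
        fun _ => rfl, fun _ => rfl⟩) (Nat.card_congr
        ⟨fun e => ⟨⟨e.1, h.grp_le_centA hx hxp e.2⟩, fun hh => hh e.2⟩,
          fun g => ⟨g.1.1, not_not.1 g.2⟩, fun _ => rfl, fun _ => rfl⟩)
    have hw2 : 2 ≤ w := by
      refine Finite.one_lt_card_iff_nontrivial.2 ⟨⟨x, h.self_mem_centA hx hxp, ha⟩, 1, fun hh => hxE ?_⟩
      rw [show x = 1 from congrArg Subtype.val hh]; exact one_mem E
    obtain ⟨w', hw'⟩ := Nat.exists_eq_add_of_le hw2
    rw [hw'] at e1 hwA
    rw [show 2 + w' - 1 = 1 + w' by omega] at e1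
    have h2 : Nat.card Bd = (1 + w') * Nat.card E := by
      rw [← hwA] at hBdcard
      linarith
    rw [h2] at e1
    exact Nat.eq_of_mul_eq_mul_right (show 0 < 1 + w' by omega) (by rw [← e1]; ring)
  -- the others are free under `T`
  let U := {b : {b : G ⧸ M // b ≠ base M} // ¬ ∃ u : Bd, u.1 • b.1 = b.1}
  letI : MulAction (SEqData.SG T) U :=
    { smul := fun g b => ⟨⟨(g : G) • b.1.1, fun hh => b.1.2
          (smul_left_cancel (g : G) (hh.trans (SEqData.SG_fix T g.2).symm))⟩, by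
        rintro ⟨u, hu⟩
        have hu' : ((g : G)⁻¹ * u.1 * g) • b.1.1 = b.1.1 := by
          rw [mul_smul, mul_smul, inv_smul_eq_iff]; exact hu
        have hbad : Bad z ((g : G)⁻¹ * u.1 * g) := by simpa using (hBd u).conj (g : G)⁻¹
        have hS : (g : G)⁻¹ * u.1 * g ∈ SEqData.SG T := mul_mem (mul_mem (inv_mem g.2) (hAP u.2.1).1) g.2
        have hP : (g : G)⁻¹ * u.1 * g ∈ P := ⟨hS, Subgroup.mem_centralizer_iff.2 fun e he =>
          (h.commute_grp hbad (SEqData.SG_fix T hS) he).eq.symm⟩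
        exact b.2 ⟨⟨_, hno _ hP.1 hbad, h.not_mem_grp_of_bad hbad⟩, hu'⟩⟩
      one_smul := fun b => Subtype.ext (Subtype.ext (one_smul G b.1.1))
      mul_smul := fun g k b => Subtype.ext (Subtype.ext (mul_smul (g : G) (k : G) b.1.1)) }
  have hfree : ∀ b : U, MulAction.stabilizer (SEqData.SG T) b = ⊥ := by
    intro b
    refine (Subgroup.eq_bot_iff_forall _).2 fun g hg => by_contra fun hg1 => ?_
    have hgb : (g : G) • b.1.1 = b.1.1 := congrArg (fun c : U => c.1.1) hg
    obtain ⟨k, hk⟩ : ∃ k, orderOf g = 2 ^ k := by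
      obtain ⟨i, hi⟩ := SEqData.isPGroup_SG T g
      obtain ⟨j, -, hj⟩ := (Nat.dvd_prime_pow Nat.prime_two).1 (orderOf_dvd_of_pow_eq_one hi)
      exact ⟨j, hj⟩
    have heven : Even (orderOf (g : G)) := by
      rw [Subgroup.orderOf_coe, hk]
      rcases k with - | k
      · exact absurd (orderOf_eq_one_iff.1 (by rw [hk, pow_zero])) hg1
      · exact Nat.even_pow.2 ⟨even_two, k.succ_ne_zero⟩
    set i := (g : G) ^ (orderOf (g : G) / 2)
    have hio : orderOf i = 2 := orderOf_pow_half heven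
    have hiS : i ∈ SEqData.SG T := pow_mem g.2 _
    have hib : i • b.1.1 = b.1.1 :=
      Crit.forall_zpowers_fix hgb i (Subgroup.pow_mem _ (Subgroup.mem_zpowers _) _)
    have hbad : Bad z i := ⟨hio, fun hh => b.1.2 (h.res.crit.fix_unique hh hib (SEqData.SG_fix T hiS))⟩
    have hP : i ∈ P := ⟨hiS, Subgroup.mem_centralizer_iff.2 fun e he =>
      (h.commute_grp hbad (SEqData.SG_fix T hiS) he).eq.symm⟩
    exact b.2 ⟨⟨i, hno _ hP.1 hbad, h.not_mem_grp_of_bad hbad⟩, hib⟩
  have hdvd : Nat.card (SEqData.SG T) ∣ Nat.card U := by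
    rw [Nat.card_congr (MulAction.selfEquivOrbitsQuotientProd hfree), Nat.card_prod]
    exact dvd_mul_left _ _
  have hsum : Nat.card Cov + Nat.card U = Nat.card E ^ 3 := by
    rw [← h.card_other hfix hx, ← Nat.card_sum]
    exact Nat.card_congr (Equiv.sumCompl fun b : {b : G ⧸ M // b ≠ base M} => ∃ u : Bd, u.1 • b.1 = b.1)
  -- `q |A|` divides the order of `M`
  have hqA : Nat.card E * Nat.card A ∣ Nat.card M := by
    set N := h.normA x
    set C : Subgroup N := (Subgroup.centralizer ({x} : Set G)).subgroupOf N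
    let X : Set G := {v | ∃ k ∈ N, k * x * k⁻¹ = v}
    have hX : C.index = Nat.card X := by
      let f : N ⧸ C → X := Quotient.lift (fun k : N => (⟨k * x * (k : G)⁻¹, k, k.2, rfl⟩ : X)) fun k l hkl => by
        have hc := Subgroup.mem_centralizer_singleton_iff.1 (Subgroup.mem_subgroupOf.1
          (QuotientGroup.leftRel_apply.1 hkl))
        refine Subtype.ext (show (k : G) * x * (k : G)⁻¹ = l * x * (l : G)⁻¹ from ?_)
        simp only [Subgroup.coe_mul, Subgroup.coe_inv] at hc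
        calc (k : G) * x * (k : G)⁻¹ = k * (x * ((k : G)⁻¹ * l)) * (l : G)⁻¹ := by group
          _ = k * (((k : G)⁻¹ * l) * x) * (l : G)⁻¹ := by rw [hc]
          _ = l * x * (l : G)⁻¹ := by group
      refine Nat.card_eq_of_bijective f ⟨?_, ?_⟩
      · refine fun a b => QuotientGroup.induction_on a fun k => QuotientGroup.induction_on b fun l hkl => ?_
        have h1 : (k : G) * x * (k : G)⁻¹ = l * x * (l : G)⁻¹ := congrArg Subtype.val hkl
        refine QuotientGroup.eq.2 (Subgroup.mem_subgroupOf.2 (Subgroup.mem_centralizer_singleton_iff.2 ?_))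
        simp only [Subgroup.coe_mul, Subgroup.coe_inv]
        calc (k : G)⁻¹ * l * x = (k : G)⁻¹ * (l * x * (l : G)⁻¹) * l := by group
          _ = x * ((k : G)⁻¹ * l) := by rw [← h1]; group
      · rintro ⟨v, k, hk, rfl⟩
        exact ⟨((⟨k, hk⟩ : N) : N ⧸ C), rfl⟩
    have hXE : ∀ v ∈ X, ∀ d ∈ E, v * d ∈ X := by
      rintro v ⟨k, hk, rfl⟩ d hd
      have hkp : k⁻¹ • base M = base M := inv_smul_eq_iff.2 (MulAction.mem_stabilizer_iff.1 hk.2).symm
      obtain ⟨l, hl, hlx⟩ := h.exists_conj_translate hfix hx hxp (h.res.grp_conj hkp hd)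
      refine ⟨k * l, mul_mem hk hl, ?_⟩
      rw [show k * l * x * (k * l)⁻¹ = k * (l * x * l⁻¹) * k⁻¹ by group, hlx]
      group
    have hpre : QuotientGroup.mk ⁻¹' (((↑) : G → G ⧸ E) '' X) = X := by
      refine Set.Subset.antisymm ?_ fun v hv => ⟨v, hv, rfl⟩
      rintro v ⟨v', hv', hvv⟩
      have := hXE v' hv' _ (QuotientGroup.eq.1 hvv)
      rwa [mul_inv_cancel_left] at this
    have hidx : Nat.card E ∣ C.index := by
      rw [hX, ← hpre, Nat.card_congr (QuotientGroup.preimageMkEquivSubgroupProdSet _ _), Nat.card_prod]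
      exact dvd_mul_right _ _
    have hAC : Nat.card A ∣ Nat.card C := by
      refine Subgroup.card_dvd_of_injective
        (⟨⟨fun g => ⟨⟨g.1, ⟨?_, g.2.1⟩⟩, Subgroup.mem_subgroupOf.2
          (Subgroup.mem_centralizer_singleton_iff.2 g.2.2.1.eq)⟩, rfl⟩, fun _ _ => rfl⟩ : A →* C)
        fun g k hgk => Subtype.ext (congrArg (fun c : C => ((c : N) : G)) hgk)
      exact Subgroup.le_normalizer g.2
    refine (Nat.mul_dvd_mul hidx hAC).trans ?_
    rw [C.index_mul_card]
    exact Subgroup.card_dvd_of_le fun g hg => smul_base_iff.1 hg.2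
  obtain ⟨n, hn⟩ := IsPGroup.iff_card.1 (h.res.isPGroup_grp (base M))
  have hwpos : 2 ≤ w := by
    refine Finite.one_lt_card_iff_nontrivial.2 ⟨⟨x, h.self_mem_centA hx hxp, ha⟩, 1, fun hh => hxE ?_⟩
    rw [show x = 1 from congrArg Subtype.val hh]; exact one_mem E
  obtain ⟨i, hi⟩ := IsPGroup.iff_card.1 (hA2.to_le (inf_le_left : A ⊓ MulAction.stabilizer G a ≤ A))
  rw [← hw] at hi
  have hEpos : 1 ≤ n := by
    rcases n with - | n
    · exfalso
      have := h.res.card_grp (base M)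
      have := h.two_le
      rw [pow_zero] at hn
      omega
    · omega
  have hi1 : 1 ≤ i := by
    rcases i with - | i
    · rw [pow_zero] at hi; omega
    · omega
  have hdM : 2 ^ (n + n + 1) ∣ Nat.card M := by
    refine Dvd.dvd.trans ?_ hqA
    rw [← hwA, hi, hn, show 2 ^ n * (2 ^ i * 2 ^ n) = 2 ^ (n + n + i) by ring]
    exact pow_dvd_pow 2 (by omega)
  have hdS : 2 ^ (n + n + 1) ∣ Nat.card (SEqData.SG T) := by
    rw [SEqData.card_SG, T.card_eq_multiplicity]
    exact pow_dvd_pow 2 ((Nat.Prime.pow_dvd_iff_le_factorization Nat.prime_two Nat.card_pos.ne').1 hdM)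
  have hdU := hdS.trans hdvd
  have hU : Nat.card U = 2 ^ (n + n) * (2 ^ n - 1) := by
    rw [hcov, hn, show (2 ^ n) ^ 3 = 2 ^ (n + n) * 2 ^ n by ring, show (2 ^ n) ^ 2 = 2 ^ (n + n) by ring] at hsum
    rw [Nat.mul_sub, mul_one]
    omega
  rw [hU, pow_succ] at hdU
  have hodd : Odd (2 ^ n - 1) := Nat.Even.sub_odd (Nat.one_le_two_pow) (Nat.even_pow.2 ⟨even_two, by omega⟩) odd_one
  exact Nat.not_even_iff_odd.2 hodd (even_iff_two_dvd.2 ((Nat.mul_dvd_mul_iff_left (Nat.two_pow_pos _)).1 hdU))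

/-- **A two-element centralizing `E`, normalizing `A` and moving `x`.** -/
theorem exists_cent_mover {x : G} (hx : Bad z x) (hxp : x • base M = base M) :
    ∃ g ∈ h.normA x, (∀ e ∈ h.res.grp (base M), Commute g e) ∧ (∃ i : ℕ, g ^ 2 ^ i = 1) ∧ ¬ Commute g x := by
  classical
  haveI : Fact (Nat.Prime 2) := ⟨Nat.prime_two⟩
  by_contra hno
  push Not at hno
  set E := h.res.grp (base M) with hE
  set A := h.centA x with hA
  have hA2 : IsPGroup 2 A := fun v =>
    ⟨1, Subtype.ext (by show (v : G) ^ 2 ^ 1 = 1; rw [pow_one, pow_two, h.centA_sq hfix hx hxp v.2])⟩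
  have hAM : A ≤ M := fun g hg => smul_base_iff.1 hg.1
  obtain ⟨T, hT⟩ := (hA2.of_equiv (Subgroup.subgroupOfEquivOfLe hAM).symm).exists_le_sylow
  let P : Subgroup G := SEqData.SG T ⊓ Subgroup.centralizer (E : Set G)
  have hcE : ∀ g ∈ P, ∀ e ∈ E, Commute g e := fun g hg e he => (Subgroup.mem_centralizer_iff.1 hg.2 e he).symm
  have hAP : A ≤ P := fun g hg => ⟨(SEqData.mem_SG T).2 ⟨hAM hg, hT (Subgroup.mem_subgroupOf.2 hg)⟩,
    Subgroup.mem_centralizer_iff.2 fun e he => (hg.2.2 e he).eq.symm⟩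
  obtain ⟨u, huT, hub, huA⟩ := h.exists_bad_outside hfix hx hxp T fun g hg => (hAP hg).1
  have huP : u ∈ P := ⟨huT, Subgroup.mem_centralizer_iff.2 fun e he =>
    (h.commute_grp hub (SEqData.SG_fix T huT) he).eq.symm⟩
  have hne : ¬ P ≤ A := fun hh => huA (hh huP)
  haveI : Group.IsNilpotent P := ((SEqData.isPGroup_SG T).to_le inf_le_left).isNilpotent
  have hlt : A.subgroupOf P < ⊤ := lt_top_iff_ne_top.2 fun e1 => hne (Subgroup.subgroupOf_eq_top.1 e1)
  obtain ⟨g, hgN, hgA⟩ := SetLike.exists_of_lt (normalizerCondition_of_isNilpotent _ hlt)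
  have hgA' : (g : G) ∉ A := fun hh => hgA (Subgroup.mem_subgroupOf.2 hh)
  have hgp : (g : G) • base M = base M := SEqData.SG_fix T g.2.1
  refine hgA' ⟨hgp, hno g ⟨Subgroup.mem_normalizer_iff.2 fun v => ?_, hgp⟩ (hcE g g.2) ?_, hcE g g.2⟩
  · constructor
    · intro hv
      exact Subgroup.mem_subgroupOf.1 ((Subgroup.mem_normalizer_iff.1 hgN ⟨v, hAP hv⟩).1 (Subgroup.mem_subgroupOf.2 hv))
    · intro hv
      have h2 : (g : G)⁻¹ * ((g : G) * v * (g : G)⁻¹) * g ∈ A := by
        have := (Subgroup.mem_normalizer_iff.1 (inv_mem hgN) ⟨_, hAP hv⟩).1 (Subgroup.mem_subgroupOf.2 hv)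
        have h3 := Subgroup.mem_subgroupOf.1 this
        simpa using h3
      simpa [mul_assoc] using h2
  · obtain ⟨i, hi⟩ := SEqData.isPGroup_SG T ⟨(g : G), g.2.1⟩
    exact ⟨i, congrArg Subtype.val hi⟩

end EqRes

end CfsgLib.SECrit.Eq
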